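import Groth.Agent.MvInv51.Basic
import Groth.Agent.QS97.HyperLocal
import Groth.Agent.QS97.Degree2
import Groth.Agent.CAlg6.CompleteSurj
import Groth.Agent.CAlg5.AdicFS
import Groth.Prelude.Def_QuadSing

/-! Coordinates adapted to a quadratic singularity. -/

set_option autoImplicit false

universe u

open IsLocalRing MvPowerSeries

namespace Groth.Agent.An92.Morse

variable {k : Type u} [Field k] {n : ℕ}

local notation "S" => MvPowerSeries (Fin n) k

theorem J_le_pow {m : ℕ} {f : S} (h : f ∈ MvInv51.J (R := k) (τ := Fin n) m) : f ∈ maximalIdeal S ^ m :=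
  QS97.mem_pow_of_ordGE m fun d hd => MvInv51.mem_J.1 h d hd

theorem pow_le_J {m : ℕ} {f : S} (h : f ∈ maximalIdeal S ^ m) : f ∈ MvInv51.J (R := k) (τ := Fin n) m :=
  MvInv51.mem_J.2 fun d hd => QS97.ordGE_of_mem_pow m h d hd

/-- The quadratic part. -/
theorem sub_quad_mem {f : S} (h : VanCyc.NoLowTerms f) :
    f - (VanCyc.quadPoly (VanCyc.quadPart f) : MvPolynomial (Fin n) k) ∈ maximalIdeal S ^ 3 := by
  refine QS97.mem_pow_of_ordGE 3 fun d hd => ?_
  rw [map_sub, QS97.coe_quadPoly]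
  obtain hd0 | hd1 | hd2 : d.degree = 0 ∨ d.degree = 1 ∨ d.degree = 2 := by omega
  · rw [QS97.coeff_quadEval_of_ne_two _ (by omega), sub_zero, (Finsupp.degree_eq_zero_iff d).1 hd0,
      coeff_zero_eq_constantCoeff_apply]
    exact h.1
  · obtain ⟨j, rfl⟩ := QS97.exists_single hd1
    rw [QS97.coeff_quadEval_of_ne_two _ (by omega), sub_zero]
    exact h.2 j
  · obtain ⟨i, j, hij, rfl⟩ := QS97.exists_pairExp hd2
    rw [QS97.coeff_quadEval_pairExp _ hij, QS97.quadPart_eq f hij, sub_self]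

theorem quadPoly_notMem (q : Fin (n + 1) → Fin (n + 1) → k) (hq : VanCyc.QuadOrd q) :
    ((VanCyc.quadPoly q : MvPolynomial (Fin (n + 1)) k) : MvPowerSeries (Fin (n + 1)) k) ∉
      maximalIdeal (MvPowerSeries (Fin (n + 1)) k) ^ 3 := by
  intro h
  have hz : ∀ i j, i ≤ j → q i j = 0 := fun i j hij => by
    rw [← QS97.coeff_quadEval_pairExp q hij, ← QS97.coe_quadPoly]
    exact QS97.ordGE_of_mem_pow 3 h _ (by simp [QS97.pairExp, map_add])
  have := hq (Pi.single 0 1) (by
    unfold VanCyc.quadEval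
    refine Finset.sum_eq_zero fun i _ => Finset.sum_eq_zero fun j _ => ?_
    split_ifs with hij
    · rw [hz i j hij, zero_mul, zero_mul]
    · rfl) (by
    ext i
    show ∑ j, VanCyc.polarMatrix q i j * (Pi.single 0 1 : Fin (n + 1) → k) j = 0
    refine Finset.sum_eq_zero fun j _ => ?_
    suffices VanCyc.polarMatrix q i j = 0 by simp [this]
    unfold VanCyc.polarMatrix
    split_ifs with h1 h2
    · rw [hz i i le_rfl, mul_zero]
    · exact hz i j h2.le
    · exact hz j i (le_of_not_gt h2))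
  simpa using congrFun this 0

/-- An element of `m²` as a combination of products of variables. -/
theorem exists_quad_expansion {f : S} (hf : f ∈ maximalIdeal S ^ 2) :
    ∃ c : Fin n → Fin n → S, f = ∑ i, ∑ j, c i j * (X i * X j) := by
  obtain ⟨g, hg, rfl⟩ := CAlg6.exists_decomp (N := 1) (QS97.ordGE_of_mem_pow 2 hf)
  choose c hc hc' using fun i => CAlg6.exists_decomp (N := 0) (hg i)
  refine ⟨c, Finset.sum_congr rfl fun i _ => ?_⟩
  rw [hc' i, Finset.mul_sum]
  exact Finset.sum_congr rfl fun j _ => by ring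

variable (O : Type u) [CommRing O] [IsLocalRing O] [Algebra k O] [IsNoetherianRing O]

/-- Coordinates adapted to a presentation of the completion. -/
theorem exists_coords_of_equiv (f : MvPowerSeries (Fin (n + 1)) k) (hlow : VanCyc.NoLowTerms f)
    (e : AdicCompletion (maximalIdeal O) O ≃ₐ[k] MvPowerSeries (Fin (n + 1)) k ⧸ Ideal.span {f}) :
    ∃ (g : MvPowerSeries (Fin (n + 1)) k) (y : Fin (n + 1) → O)
      (δ : O →ₐ[k] MvPowerSeries (Fin (n + 1)) k ⧸ Ideal.span {g}),
      g - (VanCyc.quadPoly (VanCyc.quadPart f) : MvPolynomial (Fin (n + 1)) k) ∈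
        maximalIdeal (MvPowerSeries (Fin (n + 1)) k) ^ 3 ∧
      (∀ i, δ (y i) = Ideal.Quotient.mk _ (X i)) ∧
      ∀ m x, δ x ∈ ((maximalIdeal (MvPowerSeries (Fin (n + 1)) k)).map (Ideal.Quotient.mk (Ideal.span {g}))) ^ m ↔
        x ∈ maximalIdeal O ^ m := by
  classical
  let P := MvPowerSeries (Fin (n + 1)) k
  let M : Ideal P := maximalIdeal P
  have hfQ := sub_quad_mem hlow
  have hf2 : f ∈ M ^ 2 := by
    refine QS97.mem_pow_of_ordGE 2 fun d hd => ?_
    obtain hd0 | hd1 : d.degree = 0 ∨ d.degree = 1 := by omega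
    · rw [(Finsupp.degree_eq_zero_iff d).1 hd0, coeff_zero_eq_constantCoeff_apply]; exact hlow.1
    · obtain ⟨j, rfl⟩ := QS97.exists_single hd1; exact hlow.2 j
  have hspan : Ideal.span {f} ≤ M ^ 2 := (Ideal.span_singleton_le_iff_mem _).2 hf2
  let C0 := AdicCompletion (maximalIdeal O) O
  let mh : Ideal C0 := (maximalIdeal O).map (algebraMap O C0)
  have hfg : (maximalIdeal O).FG := (maximalIdeal O).fg_of_isNoetherianRing
  let mT : Ideal (P ⧸ Ideal.span {f}) := M.map (Ideal.Quotient.mk _)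
  have hmT : ∀ t, t ∉ mT → IsUnit t := fun t ht => by
    obtain ⟨s, rfl⟩ := Ideal.Quotient.mk_surjective t
    exact (IsLocalRing.notMem_maximalIdeal.1 fun hs => ht (Ideal.mem_map_of_mem _ hs)).map _
  have hmT1 : (1 : P ⧸ Ideal.span {f}) ∉ mT := by
    intro h
    obtain ⟨s, hs, hs'⟩ := (Ideal.mem_map_iff_of_surjective _ Ideal.Quotient.mk_surjective).1 h
    rw [← map_one (Ideal.Quotient.mk (Ideal.span {f})), Ideal.Quotient.eq] at hs'
    have := Ideal.pow_le_self two_ne_zero (hspan hs')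
    have h1 := M.sub_mem hs this
    rw [sub_sub_cancel] at h1
    exact (maximalIdeal.isMaximal P).ne_top ((Ideal.eq_top_iff_one _).2 h1)
  have hmap : mh.map e.toRingHom = mT := by
    refine le_antisymm (fun t ht => ?_) fun t ht => ?_
    · by_contra h
      obtain ⟨z, hz, rfl⟩ := (Ideal.mem_map_iff_of_surjective _ e.surjective).1 ht
      have hzu : IsUnit z := by simpa using (hmT _ h).map e.symm.toRingEquiv.toRingHom
      have : algebraMap O C0 1 ∈ mh ^ 1 := by
        rw [pow_one, map_one]; exact (Ideal.eq_top_iff_one mh).1 (Ideal.eq_top_of_isUnit_mem mh hz hzu)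
      have := CAlg5.mem_pow_of_algebraMap_mem _ hfg 1 1 this
      rw [pow_one] at this
      exact (maximalIdeal.isMaximal O).ne_top ((Ideal.eq_top_iff_one _).2 this)
    · obtain ⟨z, rfl⟩ := e.surjective t
      obtain ⟨r, hr⟩ := CAlg5.exists_sub_mem_pow _ hfg 1 z
      rw [pow_one] at hr
      refine Ideal.mem_map_of_mem _ ?_
      by_cases hru : IsUnit r
      · exfalso
        have h2 : e (z - algebraMap O C0 r) ∈ mT := by
          by_contra h
          have hu : IsUnit (z - algebraMap O C0 r) := by simpa using (hmT _ h).map e.symm.toRingEquiv.toRingHom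
          have : algebraMap O C0 1 ∈ mh ^ 1 := by
            rw [pow_one, map_one]; exact (Ideal.eq_top_iff_one mh).1 (Ideal.eq_top_of_isUnit_mem mh hr hu)
          have := CAlg5.mem_pow_of_algebraMap_mem _ hfg 1 1 this
          rw [pow_one] at this
          exact (maximalIdeal.isMaximal O).ne_top ((Ideal.eq_top_iff_one _).2 this)
        have h3 : e (algebraMap O C0 r) ∈ mT := by
          have := mT.sub_mem ht h2
          rwa [← map_sub, sub_sub_cancel] at this
        obtain ⟨v, hv⟩ := (hru.map (algebraMap O C0)).map e.toRingEquiv.toRingHom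
        have h4 : (v : P ⧸ Ideal.span {f}) ∈ mT := by rw [hv]; exact h3
        have h5 := mT.mul_mem_left (↑v⁻¹ : P ⧸ Ideal.span {f}) h4
        rw [Units.inv_mul] at h5
        exact hmT1 h5
      · exact sub_add_cancel z (algebraMap O C0 r) ▸ mh.add_mem hr (Ideal.mem_map_of_mem (algebraMap O C0) ((mem_maximalIdeal r).2 hru))
  let δ₀ : O →ₐ[k] P ⧸ Ideal.span {f} := e.toAlgHom.comp (IsScalarTower.toAlgHom k O C0)
  have hδ₀ : ∀ m x, δ₀ x ∈ mT ^ m ↔ x ∈ maximalIdeal O ^ m := fun m x => by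
    rw [← hmap, ← Ideal.map_pow]
    refine ⟨fun h => CAlg5.mem_pow_of_algebraMap_mem _ hfg m x ?_, fun h => ?_⟩
    · obtain ⟨z, hz, hze⟩ := (Ideal.mem_map_iff_of_surjective _ e.surjective).1 h
      exact (e.injective hze) ▸ hz
    · exact Ideal.mem_map_of_mem _ (by rw [← Ideal.map_pow]; exact Ideal.mem_map_of_mem _ h)
  have hy : ∀ i, ∃ (a : P) (y : O), a - X i ∈ M ^ 2 ∧ δ₀ y = Ideal.Quotient.mk _ a := fun i => by
    obtain ⟨z, hz⟩ := e.surjective (Ideal.Quotient.mk _ (X i))
    obtain ⟨r, hr⟩ := CAlg5.exists_sub_mem_pow _ hfg 2 z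
    have h2 := Ideal.mem_map_of_mem e.toRingHom hr
    rw [Ideal.map_pow, hmap, ← Ideal.map_pow] at h2
    obtain ⟨b, hb, hb'⟩ := (Ideal.mem_map_iff_of_surjective _ Ideal.Quotient.mk_surjective).1 h2
    refine ⟨X i - b, r, by simpa using neg_mem hb, ?_⟩
    rw [map_sub, hb', ← hz]
    show e (algebraMap O C0 r) = e z - e (z - algebraMap O C0 r)
    rw [← map_sub, sub_sub_cancel]
  choose a y ha hya using hy
  obtain ⟨φ, hφ⟩ := MvInv51.exists_algEquiv a (fun _ => 1) fun i => by
    simpa using pow_le_J (ha i)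
  have hφX : ∀ i, φ (a i) = X i := fun i => by
    have := hφ (X i)
    rwa [subst_X] at this
    exact MvInv51.hasSubst_of_mem_J_one fun j => by
      have : a j ∈ M := by
        have hX : (X j : P) ∈ M := CAlg6.mem_maximalIdeal_iff.2 (constantCoeff_X j)
        simpa using M.add_mem (Ideal.pow_le_self two_ne_zero (ha j)) hX
      exact pow_le_J (by rwa [pow_one])
  have hmem : ∀ {m : ℕ} {x : P}, x ∈ M ^ m → φ x ∈ M ^ m := fun {m x} hx => by
    have := Ideal.mem_map_of_mem φ.toRingEquiv.toRingHom hx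
    rw [Ideal.map_pow] at this
    exact Ideal.pow_right_mono (map_ringEquiv_maximalIdeal φ.toRingEquiv).le m this
  have hX2 : ∀ i, φ (X i) - X i ∈ M ^ 2 := fun i => by
    have := hmem (ha i)
    rw [map_sub, hφX] at this
    simpa using neg_mem this
  have hc1 : ∀ c : P, φ c - c ∈ M := fun c => by
    have h1 : c - C (constantCoeff c) ∈ M ^ 1 := by
      rw [pow_one]; exact CAlg6.mem_maximalIdeal_iff.2 (by simp)
    have h2 := hmem h1
    rw [map_sub, show φ (C (constantCoeff c)) = C (constantCoeff c) from φ.commutes _] at h2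
    rw [pow_one] at h1 h2
    simpa using M.sub_mem h2 h1
  have hf3 : φ f - f ∈ M ^ 3 := by
    obtain ⟨c, hc⟩ := exists_quad_expansion hf2
    rw [hc, map_sum, ← Finset.sum_sub_distrib]
    refine Ideal.sum_mem _ fun i _ => ?_
    rw [map_sum, ← Finset.sum_sub_distrib]
    refine Ideal.sum_mem _ fun j _ => ?_
    have hXM : ∀ l, (X l : P) ∈ M := fun l => CAlg6.mem_maximalIdeal_iff.2 (constantCoeff_X l)
    have hφM : ∀ l, φ (X l) ∈ M := fun l => by simpa using hmem (m := 1) (by simpa using hXM l)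
    rw [map_mul, map_mul, show φ (c i j) * (φ (X i) * φ (X j)) - c i j * (X i * X j) =
      (φ (c i j) - c i j) * (φ (X i) * φ (X j)) + c i j * ((φ (X i) - X i) * φ (X j)) +
        c i j * ((φ (X j) - X j) * X i) by ring]
    refine add_mem (add_mem ?_ ?_) ?_
    · rw [pow_succ', pow_two]; exact Ideal.mul_mem_mul (hc1 _) (Ideal.mul_mem_mul (hφM i) (hφM j))
    · exact Ideal.mul_mem_left _ _ (by rw [pow_succ]; exact Ideal.mul_mem_mul (hX2 i) (hφM j))
    · exact Ideal.mul_mem_left _ _ (by rw [pow_succ]; exact Ideal.mul_mem_mul (hX2 j) (hXM i))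
  let Φ : (P ⧸ Ideal.span {f}) ≃ₐ[k] (P ⧸ Ideal.span {φ f}) :=
    Ideal.quotientEquivAlg _ _ φ (by rw [Ideal.map_span, Set.image_singleton]; rfl)
  have hΦ : ∀ x, Φ (Ideal.Quotient.mk _ x) = Ideal.Quotient.mk _ (φ x) := fun x => rfl
  refine ⟨φ f, y, Φ.toAlgHom.comp δ₀, ?_, fun i => ?_, fun m x => ?_⟩
  · simpa using add_mem hf3 hfQ
  · show Φ (δ₀ (y i)) = _
    rw [hya, hΦ, hφX]
  · rw [← hδ₀ m x]
    have hmm : mT.map Φ.toRingEquiv.toRingHom = M.map (Ideal.Quotient.mk (Ideal.span {φ f})) := by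
      have hM : M.map φ.toRingEquiv.toRingHom = M := map_ringEquiv_maximalIdeal φ.toRingEquiv
      conv_rhs => rw [← hM]
      rw [Ideal.map_map, Ideal.map_map]
      rfl
    rw [← hmm, ← Ideal.map_pow]
    refine ⟨fun h => ?_, fun h => Ideal.mem_map_of_mem _ h⟩
    obtain ⟨z, hz, hze⟩ := (Ideal.mem_map_iff_of_surjective _ Φ.surjective).1 h
    exact (Φ.injective hze) ▸ hz

/-- Coordinates of a quadratic singularity. -/
theorem exists_coords (hq : VanCyc.IsOrdQuadSing k O n) :
    ∃ (q : Fin (n + 1) → Fin (n + 1) → k) (f : MvPowerSeries (Fin (n + 1)) k) (y : Fin (n + 1) → O)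
      (δ : O →ₐ[k] MvPowerSeries (Fin (n + 1)) k ⧸ Ideal.span {f}),
      VanCyc.QuadOrd q ∧
      f - (VanCyc.quadPoly q : MvPolynomial (Fin (n + 1)) k) ∈ maximalIdeal (MvPowerSeries (Fin (n + 1)) k) ^ 3 ∧
      (∀ i, δ (y i) = Ideal.Quotient.mk _ (X i)) ∧
      ∀ m x, δ x ∈ ((maximalIdeal (MvPowerSeries (Fin (n + 1)) k)).map (Ideal.Quotient.mk (Ideal.span {f}))) ^ m ↔
        x ∈ maximalIdeal O ^ m := by
  obtain ⟨f, ⟨hlow, hord⟩, ⟨e⟩⟩ := hq
  obtain ⟨g, y, δ, h1, h2, h3⟩ := exists_coords_of_equiv O f hlow e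
  exact ⟨_, g, y, δ, hord, h1, h2, h3⟩

end Groth.Agent.An92.Morse
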