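import Groth.Agent.Hensel20.Jacobian
import Groth.Agent.QS97.Formal
import Groth.Prelude.Def_QuadSing
import Mathlib.FieldTheory.IsAlgClosed.Basic
import Mathlib.LinearAlgebra.Dual.Lemmas

/-! The Morse lemma over a henselian local ring. -/

set_option autoImplicit false

universe u

open IsLocalRing Matrix

namespace Groth.Agent.An92.Morse

variable {S : Type u} [CommRing S] {N : ℕ}

/-- The table of the form of a matrix. -/
def symT (W : Matrix (Fin N) (Fin N) S) (a b : Fin N) : S := if a = b then W a a else W a b + W b a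

theorem symT_map {T : Type u} [CommRing T] (φ : S →+* T) (W : Matrix (Fin N) (Fin N) S) (a b : Fin N) :
    φ (symT W a b) = symT (W.map φ) a b := by
  unfold symT
  split <;> simp

theorem quadEval_symT (W : Matrix (Fin N) (Fin N) S) (x : Fin N → S) :
    VanCyc.quadEval (symT W) x = x ⬝ᵥ (W *ᵥ x) := by
  classical
  let F : Fin N → Fin N → S := fun a b => x a * (W a b * x b)
  have h1 : x ⬝ᵥ (W *ᵥ x) = ∑ a, ∑ b, F a b := Finset.sum_congr rfl fun a _ =>
    Finset.mul_sum (Finset.univ : Finset (Fin N)) (fun b => W a b * x b) (x a)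
  have h2 : ∀ a b, F a b = (if a ≤ b then F a b else 0) + (if b < a then F a b else 0) := fun a b => by
    rcases le_or_gt a b with h | h
    · simp [h, h.not_gt]
    · simp [h, h.not_ge]
  rw [h1, Finset.sum_congr rfl fun a _ => Finset.sum_congr rfl fun b _ => h2 a b]
  simp only [Finset.sum_add_distrib]
  rw [Finset.sum_comm (f := fun a b => if b < a then F a b else 0), ← Finset.sum_add_distrib]
  refine Finset.sum_congr rfl fun a _ => ?_
  rw [← Finset.sum_add_distrib]
  refine Finset.sum_congr rfl fun b _ => ?_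
  rcases lt_trichotomy a b with h | h | h
  · simp only [symT, if_pos h.le, if_neg h.ne, if_pos h, F]; ring
  · subst h; simp only [symT, if_pos le_rfl, if_pos rfl, lt_irrefl, if_false, F]; simp; ring
  · simp [h.not_ge, h.not_gt]

theorem quadEval_mulVec (q : Fin N → Fin N → S) (M : Matrix (Fin N) (Fin N) S) (x : Fin N → S) :
    VanCyc.quadEval q (M *ᵥ x) = VanCyc.quadEval (symT (Mᵀ * QS97.upper q * M)) x := by
  rw [quadEval_symT, ← Matrix.mulVec_mulVec, ← Matrix.mulVec_mulVec, Matrix.dotProduct_mulVec x Mᵀ,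
    Matrix.vecMul_transpose, QS97.quadEval_eq_upper]
  refine Finset.sum_congr rfl fun i _ => ?_
  show _ = (M *ᵥ x) i * ∑ j, QS97.upper q i j * (M *ᵥ x) j
  rw [Finset.mul_sum]
  exact Finset.sum_congr rfl fun j _ => by ring

/-- Upper triangular index pairs. -/
abbrev Pairs (N : ℕ) : Type := { p : Fin N × Fin N // p.1 ≤ p.2 }

variable {κ : Type u} [Field κ] [IsAlgClosed κ]

/-- The linearised Morse equation is solvable. -/
theorem exists_linearised (q : Fin N → Fin N → κ) (hq : VanCyc.QuadOrd q) (t : Pairs N → κ) :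
    ∃ (δ : Matrix (Fin N) (Fin N) κ) (e : κ), ∀ p : Pairs N,
      symT (VanCyc.polarMatrix q * δ) p.1.1 p.1.2 - e * q p.1.1 p.1.2 = t p := by
  classical
  let P := VanCyc.polarMatrix q
  let L : (Matrix (Fin N) (Fin N) κ × κ) →ₗ[κ] (Pairs N → κ) :=
    { toFun := fun z p => symT (P * z.1) p.1.1 p.1.2 - z.2 * q p.1.1 p.1.2
      map_add' := fun z z' => funext fun p => by
        simp only [Prod.fst_add, Prod.snd_add, Matrix.mul_add, symT, Matrix.add_apply, Pi.add_apply]
        split <;> ring
      map_smul' := fun c z => funext fun p => by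
        simp only [Prod.smul_fst, Prod.smul_snd, Matrix.mul_smul, symT, Matrix.smul_apply, Pi.smul_apply,
          smul_eq_mul, RingHom.id_apply]
        split <;> ring }
  suffices LinearMap.range L = ⊤ by
    obtain ⟨z, hz⟩ := LinearMap.range_eq_top.1 this t
    exact ⟨z.1, z.2, fun p => congrFun hz p⟩
  by_contra hne
  obtain ⟨Λ, hΛ0, hΛ⟩ := Submodule.exists_le_ker_of_lt_top _ (lt_top_iff_ne_top.2 hne)
  let lam : Pairs N → κ := fun p => Λ (Pi.single p 1)
  have hΛe : ∀ v : Pairs N → κ, Λ v = ∑ p, v p * lam p := fun v => by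
    conv_lhs => rw [pi_eq_sum_univ' v]
    simp [map_sum, lam]
  let s : Fin N → Fin N → κ := fun a b => lam (if h : a ≤ b then ⟨(a, b), h⟩ else ⟨(b, a), (le_of_not_ge h)⟩)
  have hs : ∀ a b, s a b = s b a := fun a b => by
    rcases lt_trichotomy a b with h | h | h
    · simp [s, h.le, h.not_ge]
    · rw [h]
    · simp [s, h.le, h.not_ge]
  have hpair : ∀ (G : Fin N → Fin N → κ),
      ∑ p : Pairs N, G p.1.1 p.1.2 = ∑ a, ∑ b, if a ≤ b then G a b else 0 := fun G => by
    rw [← Finset.sum_product', Finset.univ_product_univ, ← Finset.sum_filter]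
    exact (Finset.sum_subtype (p := fun p : Fin N × Fin N => p.1 ≤ p.2) _ (fun x => by simp)
      fun p => G p.1 p.2).symm
  have hlam : ∀ p : Pairs N, lam p = s p.1.1 p.1.2 := fun p => by simp [s, p.2]
  have hX : ∀ X : Matrix (Fin N) (Fin N) κ,
      ∑ p : Pairs N, symT X p.1.1 p.1.2 * lam p = ∑ a, ∑ b, X a b * s a b := fun X => by
    simp only [hlam]
    rw [hpair fun a b => symT X a b * s a b]
    have h2 : ∀ a b, X a b * s a b =
        (if a ≤ b then X a b * s a b else 0) + (if b < a then X a b * s a b else 0) := fun a b => by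
      rcases le_or_gt a b with h | h
      · simp [h, h.not_gt]
      · simp [h, h.not_ge]
    rw [Finset.sum_congr rfl fun a _ => Finset.sum_congr rfl fun b _ => h2 a b]
    simp only [Finset.sum_add_distrib]
    rw [Finset.sum_comm (f := fun a b => if b < a then X a b * s a b else 0), ← Finset.sum_add_distrib]
    refine Finset.sum_congr rfl fun a _ => ?_
    rw [← Finset.sum_add_distrib]
    refine Finset.sum_congr rfl fun b _ => ?_
    rcases lt_trichotomy a b with h | h | h
    · simp only [symT, if_pos h.le, if_neg h.ne, if_pos h, hs b a]; ring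
    · subst h; simp [symT]
    · simp [h.not_ge, h.not_gt]
  have hann : ∀ z, Λ (L z) = 0 := fun z => hΛ ⟨z, rfl⟩
  have hPsym : ∀ i j, P i j = P j i := fun i j => by
    simp only [P, QS97.polarMatrix_eq_upper]; ring
  have hcol : ∀ b, P *ᵥ (fun a => s a b) = 0 := fun b => funext fun l => by
    have := hann (Matrix.single l b 1, 0)
    rw [hΛe] at this
    simp only [L, LinearMap.coe_mk, AddHom.coe_mk, zero_mul, sub_zero] at this
    rw [hX, Finset.sum_comm, Finset.sum_eq_single b] at this
    · rw [Pi.zero_apply]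
      show ∑ a, P l a * s a b = 0
      refine Eq.trans (Finset.sum_congr rfl fun a _ => ?_) this
      rw [Matrix.mul_single_apply_same, mul_one, hPsym l a]
    · intro b' _ hb'
      refine Finset.sum_eq_zero fun a _ => ?_
      rw [Matrix.mul_single_apply_of_ne _ _ _ _ _ hb', zero_mul]
    · exact fun h => absurd (Finset.mem_univ b) h
  have hquad : ∑ p : Pairs N, q p.1.1 p.1.2 * lam p = 0 := by
    have := hann (0, 1)
    rw [hΛe] at this
    simp only [L, LinearMap.coe_mk, AddHom.coe_mk, Matrix.mul_zero, one_mul] at this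
    rw [← neg_eq_zero, ← Finset.sum_neg_distrib, ← this]
    exact Finset.sum_congr rfl fun p _ => by simp [symT]
  have hzero : ∀ a b, s a b = 0 := by
    by_contra hne'
    push Not at hne'
    obtain ⟨a₀, b₀, h₀⟩ := hne'
    let w : Fin N → κ := fun a => s a b₀
    have hw : P *ᵥ w = 0 := hcol b₀
    have hwq : VanCyc.quadEval q w ≠ 0 := fun h => h₀ (congrFun (hq w h hw) a₀)
    have hline : ∀ b, ∃ r, ∀ a, s a b = r * w a := fun b => by
      let v : Fin N → κ := fun a => s a b
      have hv : P *ᵥ v = 0 := hcol b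
      obtain ⟨r, hr⟩ := IsAlgClosed.exists_pow_nat_eq (-(VanCyc.quadEval q v) / VanCyc.quadEval q w) two_pos
      have hsum : VanCyc.quadEval q (v + r • w) = 0 := by
        rw [QS97.quadEval_add]
        have h0 : ∀ i, ∑ j, VanCyc.polarMatrix q i j * v j = 0 := fun i => congrFun hv i
        simp only [h0, mul_zero, Finset.sum_const_zero, add_zero]
        have : VanCyc.quadEval q (r • w) = r ^ 2 * VanCyc.quadEval q w := by
          rw [QS97.quadEval_eq_upper, QS97.quadEval_eq_upper, Finset.mul_sum]
          refine Finset.sum_congr rfl fun i _ => ?_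
          rw [Finset.mul_sum]
          exact Finset.sum_congr rfl fun j _ => by simp only [Pi.smul_apply, smul_eq_mul]; ring
        rw [this, hr, div_mul_cancel₀ _ hwq, add_neg_cancel]
      have := hq (v + r • w) hsum (by
        rw [Matrix.mulVec_add, Matrix.mulVec_smul, hv, hw, smul_zero, add_zero])
      exact ⟨-r, fun a => by
        have h := congrFun this a
        simp only [Pi.add_apply, Pi.smul_apply, smul_eq_mul, Pi.zero_apply, v] at h
        linear_combination h⟩
    choose r hr using hline
    have hwa : w a₀ ≠ 0 := h₀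
    let c := r a₀ / w a₀
    have hsw : ∀ a b, s a b = c * (w a * w b) := fun a b => by
      have h1 : r b * w a₀ = r a₀ * w b := by rw [← hr, ← hr, hs]
      rw [hr b a]
      simp only [c]
      field_simp
      linear_combination w a * h1
    have hcq : c * VanCyc.quadEval q w = 0 := by
      rw [← hquad, VanCyc.quadEval, Finset.mul_sum]
      simp only [hlam]
      rw [hpair fun a b => q a b * s a b]
      refine Finset.sum_congr rfl fun a _ => ?_
      rw [Finset.mul_sum]
      refine Finset.sum_congr rfl fun b _ => ?_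
      split
      · rw [hsw]; ring
      · rw [mul_zero]
    rcases mul_eq_zero.1 hcq with h | h
    · exact h₀ (by rw [hsw, h, zero_mul])
    · exact hwq h
  exact hΛ0 (LinearMap.ext fun v => by simp [hΛe, hlam, hzero])

/-- Leibniz rule for matrices. -/
theorem map_derivation_mul {A T : Type u} [CommRing A] [CommRing T] [Algebra A T] (D : Derivation A T T)
    (X Y : Matrix (Fin N) (Fin N) T) :
    (X * Y).map D = X.map D * Y + X * Y.map D := by
  ext i j
  simp only [Matrix.map_apply, Matrix.mul_apply, Matrix.add_apply, map_sum, Derivation.leibniz,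
    smul_eq_mul, Finset.sum_add_distrib]
  rw [add_comm]
  congr 1
  exact Finset.sum_congr rfl fun l _ => mul_comm _ _

/-- Hensel's lemma for linear changes of a quadratic form, the scalar being `1` modulo `J`. -/
theorem exists_morse_aux (R : Type u) [CommRing R] [HenselianLocalRing R] (J : Ideal R)
    (q b : Fin N → Fin N → R) (hqb : ∀ i j, i ≤ j → b i j - q i j ∈ maximalIdeal R)
    (hlin : ∀ t : Pairs N → ResidueField R, ∃ (δ : Matrix (Fin N) (Fin N) (ResidueField R)) (e : R),
      e ∈ J ∧ ∀ p : Pairs N, symT (VanCyc.polarMatrix (fun i j => residue R (q i j)) * δ) p.1.1 p.1.2 -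
        residue R e * residue R (q p.1.1 p.1.2) = t p) :
    ∃ (M : Matrix (Fin N) (Fin N) R) (c : R), IsUnit M.det ∧ IsUnit c ∧ c - 1 ∈ J ∧
      ∀ x : Fin N → R, VanCyc.quadEval q (M *ᵥ x) = c * VanCyc.quadEval b x := by
  classical
  obtain ⟨m, ⟨eq⟩⟩ := Finite.exists_equiv_fin (Pairs N)
  choose δ e' heJ hδ using fun l : Fin m => hlin (Pi.single (eq.symm l) 1)
  choose δ' hδ' using fun l i j => residue_surjective (R := R) (δ l i j)
  let U : Matrix (Fin N) (Fin N) R := QS97.upper q
  let MX : Matrix (Fin N) (Fin N) (MvPolynomial (Fin m) R) :=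
    1 + ∑ l, (MvPolynomial.X l : MvPolynomial (Fin m) R) • (Matrix.of (δ' l)).map MvPolynomial.C
  let cX : MvPolynomial (Fin m) R := 1 + ∑ l, MvPolynomial.X l * MvPolynomial.C (e' l)
  let G : Fin m → MvPolynomial (Fin m) R := fun l =>
    symT (MXᵀ * U.map MvPolynomial.C * MX) (eq.symm l).1.1 (eq.symm l).1.2 -
      cX * MvPolynomial.C (b (eq.symm l).1.1 (eq.symm l).1.2)
  let ev : (Fin m → R) → MvPolynomial (Fin m) R →+* R := fun z => (MvPolynomial.aeval z).toRingHom
  have hevC : ∀ z (X : Matrix (Fin N) (Fin N) R), (X.map MvPolynomial.C).map (ev z) = X := fun z X => by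
    ext; simp [ev]
  have hMX : ∀ z, MX.map (ev z) = 1 + ∑ l, z l • Matrix.of (δ' l) := fun z => by
    ext i j
    simp [MX, ev, Matrix.one_apply, Matrix.sum_apply, apply_ite]
  have hcX : ∀ z, ev z cX = 1 + ∑ l, z l * e' l := fun z => by simp [cX, ev]
  have hG : ∀ z l, ev z (G l) = symT ((MX.map (ev z))ᵀ * U * MX.map (ev z)) (eq.symm l).1.1 (eq.symm l).1.2 -
      ev z cX * b (eq.symm l).1.1 (eq.symm l).1.2 := fun z l => by
    simp only [G, map_sub, map_mul, symT_map, Matrix.map_mul, hevC, Matrix.transpose_map]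
    simp [ev]
  have hupper : ∀ p : Pairs N, symT U p.1.1 p.1.2 = q p.1.1 p.1.2 := fun p => by
    obtain ⟨⟨a, c⟩, hp⟩ := p
    simp only [symT, U, QS97.upper]
    split_ifs with h h1 h2 <;> simp_all
    omega
  have h00 : MX.map (ev 0) = 1 := by simp [hMX]
  have hroot : ∀ l, MvPolynomial.aeval (0 : Fin m → R) (G l) ∈ maximalIdeal R := fun l => by
    change ev 0 (G l) ∈ _
    rw [hG, h00, hcX]
    simp only [Matrix.transpose_one, Matrix.one_mul, Matrix.mul_one, hupper, Pi.zero_apply, zero_mul,
      Finset.sum_const_zero, add_zero, one_mul]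
    rw [← neg_sub]
    exact neg_mem (hqb _ _ (eq.symm l).2)
  have hD : ∀ l', MX.map (MvPolynomial.pderiv l') = (Matrix.of (δ' l')).map MvPolynomial.C := fun l' => by
    ext i j
    have h1 : MvPolynomial.pderiv (R := R) l' ((1 : Matrix (Fin N) (Fin N) (MvPolynomial (Fin m) R)) i j) = 0 := by
      rw [Matrix.one_apply]; split <;> simp
    simp only [MX, Matrix.map_apply, Matrix.add_apply, Matrix.sum_apply, Matrix.smul_apply, smul_eq_mul,
      Matrix.of_apply, map_add, map_sum, h1, zero_add, Derivation.leibniz, MvPolynomial.pderiv_C, smul_zero]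
    rw [Finset.sum_eq_single l']
    · rw [MvPolynomial.pderiv_X, Pi.single_eq_same, mul_one, mul_zero, zero_add]
    · intro l _ hl
      rw [MvPolynomial.pderiv_X, Pi.single_eq_of_ne hl, mul_zero, mul_zero, zero_add]
    · exact fun h => absurd (Finset.mem_univ l') h
  have hjac : (Hensel20.jac G (0 : Fin m → R)).map (residue R) = 1 := by
    ext l l'
    simp only [Matrix.map_apply, Hensel20.jac, Matrix.of_apply]
    change residue R (ev 0 (MvPolynomial.pderiv l' (G l))) = _
    have hDW : ((MXᵀ * U.map MvPolynomial.C * MX).map (MvPolynomial.pderiv l')).map (ev 0) =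
        (Matrix.of (δ' l'))ᵀ * U + U * Matrix.of (δ' l') := by
      have hUC : (U.map MvPolynomial.C).map (MvPolynomial.pderiv (R := R) l') = 0 := by ext; simp
      rw [map_derivation_mul, map_derivation_mul, hUC, Matrix.transpose_map, hD, mul_zero, add_zero]
      simp only [Matrix.map_add _ (map_add (ev 0)), Matrix.map_mul, Matrix.transpose_map, hevC, h00,
        Matrix.transpose_one, Matrix.one_mul, Matrix.mul_one]
    have e1 : ev 0 (MvPolynomial.pderiv l' (symT (MXᵀ * U.map MvPolynomial.C * MX) (eq.symm l).1.1 (eq.symm l).1.2)) =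
        symT ((Matrix.of (δ' l'))ᵀ * U + U * Matrix.of (δ' l')) (eq.symm l).1.1 (eq.symm l).1.2 := by
      rw [← hDW]
      unfold symT
      split <;> simp
    have e2 : ev 0 (MvPolynomial.pderiv l' cX) = e' l' := by
      simp [cX, ev, MvPolynomial.pderiv_X, Pi.single_apply, Finset.sum_ite_eq, apply_ite]
    rw [map_sub, map_sub, e1, Derivation.leibniz, MvPolynomial.pderiv_C, smul_zero, zero_add, smul_eq_mul,
      map_mul, e2, show ev 0 (MvPolynomial.C (b (eq.symm l).1.1 (eq.symm l).1.2)) = _ from MvPolynomial.aeval_C _ _]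
    have e3 : symT (((Matrix.of (δ' l'))ᵀ * U + U * Matrix.of (δ' l')).map (residue R)) (eq.symm l).1.1 (eq.symm l).1.2 =
        symT (VanCyc.polarMatrix (fun i j => residue R (q i j)) * δ l') (eq.symm l).1.1 (eq.symm l).1.2 := by
      have hU : VanCyc.polarMatrix (fun i j => residue R (q i j)) = (U + Uᵀ).map (residue R) := by
        ext i j
        rw [QS97.polarMatrix_map, Matrix.map_apply, Matrix.map_apply, QS97.polarMatrix_eq_upper]
        rfl
      have hd : δ l' = (Matrix.of (δ' l')).map (residue R) := by ext i j; exact (hδ' l' i j).symm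
      rw [hU, hd, ← Matrix.map_mul]
      simp only [symT, Matrix.map_apply, Matrix.add_apply, Matrix.mul_apply, Matrix.transpose_apply,
        add_mul, Finset.sum_add_distrib, map_add]
      split
      · next h =>
        rw [add_comm]
        congr 1
        exact congrArg _ (Finset.sum_congr rfl fun x _ => by rw [mul_comm])
      · have e4 : ∀ a c : Fin N, ∑ x, δ' l' x a * U x c = ∑ x, U x c * δ' l' x a := fun a c =>
          Finset.sum_congr rfl fun x _ => mul_comm _ _
        simp only [Matrix.of_apply, e4]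
        ring
    simp only [map_sub, map_mul, symT_map, e3, Algebra.algebraMap_self, RingHom.id_apply]
    have h5 := hδ l' (eq.symm l)
    have hb : residue R (b (eq.symm l).1.1 (eq.symm l).1.2) = residue R (q (eq.symm l).1.1 (eq.symm l).1.2) := by
      rw [← sub_eq_zero, ← map_sub, residue_eq_zero_iff]
      exact hqb _ _ (eq.symm l).2
    rw [hb, mul_comm (residue R _) (residue R (e' l')), h5]
    simp [Matrix.one_apply, Pi.single_apply, eq.symm.injective.eq_iff]
  haveI : HenselianRing R (maximalIdeal R) := inferInstance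
  obtain ⟨z, hz, hz0⟩ := Hensel20.exists_root_of_jacobian (I := maximalIdeal R) G 0 hroot (by
    show IsUnit (residue R (Hensel20.jac G 0).det)
    rw [RingHom.map_det]
    exact (congrArg Matrix.det hjac).trans Matrix.det_one ▸ isUnit_one)
  have hzr : ∀ l, residue R (z l) = 0 := fun l => by
    rw [residue_eq_zero_iff]; simpa using hz0 l
  refine ⟨MX.map (ev z), ev z cX, ?_, ?_, ?_, fun x => ?_⟩
  · refine isUnit_of_map_unit (residue R) _ ?_
    rw [RingHom.map_det]
    convert isUnit_one
    rw [hMX, show (residue R).mapMatrix (1 + ∑ l, z l • Matrix.of (δ' l)) = 1 from ?_, Matrix.det_one]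
    ext i j
    simp [Matrix.one_apply, Matrix.sum_apply, hzr, apply_ite]
  · refine isUnit_of_map_unit (residue R) _ ?_
    rw [hcX]
    simp [hzr]
  · rw [hcX, add_sub_cancel_left]
    exact sum_mem fun l _ => J.mul_mem_left _ (heJ l)
  · rw [quadEval_mulVec]
    simp only [VanCyc.quadEval, Finset.mul_sum]
    refine Finset.sum_congr rfl fun i _ => Finset.sum_congr rfl fun j _ => ?_
    split_ifs with hij
    · have := hz (eq ⟨(i, j), hij⟩)
      change ev z (G _) = 0 at this
      rw [hG, Equiv.symm_apply_apply, sub_eq_zero] at this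
      rw [this]; ring
    · rw [mul_zero]

/-- The Morse lemma: a form congruent to an ordinary one is a unit times a linear transform of it. -/
theorem exists_morse (R : Type u) [CommRing R] [HenselianLocalRing R] [IsAlgClosed (ResidueField R)]
    (q b : Fin N → Fin N → R) (hqb : ∀ i j, i ≤ j → b i j - q i j ∈ maximalIdeal R)
    (hord : VanCyc.QuadOrd fun i j => residue R (q i j)) :
    ∃ (M : Matrix (Fin N) (Fin N) R) (c : R), IsUnit M.det ∧ IsUnit c ∧
      ∀ x : Fin N → R, VanCyc.quadEval q (M *ᵥ x) = c * VanCyc.quadEval b x := by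
  obtain ⟨M, c, hM, hc, -, h⟩ := exists_morse_aux R ⊤ q b hqb fun t => by
    obtain ⟨δ, e, hδ⟩ := exists_linearised (fun i j => residue R (q i j)) hord t
    obtain ⟨e', rfl⟩ := residue_surjective (R := R) e
    exact ⟨δ, e', Submodule.mem_top, hδ⟩
  exact ⟨M, c, hM, hc, h⟩

/-- The Morse lemma for non-degenerate forms. -/
theorem exists_morse_nondeg (R : Type u) [CommRing R] [HenselianLocalRing R]
    (q b : Fin N → Fin N → R) (hqb : ∀ i j, i ≤ j → b i j - q i j ∈ maximalIdeal R)
    (hq : VanCyc.QuadNondeg q) :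
    ∃ M : Matrix (Fin N) (Fin N) R, IsUnit M.det ∧
      ∀ x : Fin N → R, VanCyc.quadEval q (M *ᵥ x) = VanCyc.quadEval b x := by
  classical
  obtain ⟨M, c, hM, -, hc, h⟩ := exists_morse_aux R ⊥ q b hqb fun t => by
    let T : Matrix (Fin N) (Fin N) (ResidueField R) := Matrix.of fun i j => if h : i ≤ j then t ⟨(i, j), h⟩ else 0
    let P : Matrix (Fin N) (Fin N) (ResidueField R) := VanCyc.polarMatrix (fun i j => residue R (q i j))
    have hP : IsUnit P.det := by
      have := hq.map (residue R)
      rw [RingHom.map_det] at this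
      show IsUnit (VanCyc.polarMatrix fun i j => residue R (q i j)).det
      rw [QS97.polarMatrix_map]
      exact this
    refine ⟨P⁻¹ * T, 0, Submodule.zero_mem _, fun p => ?_⟩
    rw [← Matrix.mul_assoc, Matrix.mul_nonsing_inv _ hP, Matrix.one_mul, map_zero, zero_mul, sub_zero]
    obtain ⟨⟨i, j⟩, hij⟩ := p
    show symT T i j = t ⟨(i, j), hij⟩
    unfold symT
    split_ifs with h
    · subst h; simp [T]
    · have : ¬ j ≤ i := fun h' => h (le_antisymm hij h')
      simp [T, hij, this]
  refine ⟨M, hM, fun x => ?_⟩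
  rw [h, sub_eq_zero.1 (Submodule.mem_bot (R := R) |>.1 hc), one_mul]

end Groth.Agent.An92.Morse
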