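import Groth.Agent.Henz21.Henselization
import Groth.Agent.Henz21.Unique
import Groth.Agent.Brnch26.FlatLift
import Groth.Agent.QS97.HyperLocal
import Groth.Agent.CAlg6.CompleteSurj

/-! The henselization of affine space at the origin inside the power series ring. -/

set_option autoImplicit false

universe u

open IsLocalRing

namespace Groth.Agent.An92.Morse

variable (k : Type u) [Field k] (N : ℕ)

/-- The origin. -/
noncomputable abbrev org : Ideal (MvPolynomial (Fin N) k) :=
  RingHom.ker (MvPolynomial.constantCoeff : MvPolynomial (Fin N) k →+* k)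

instance org_isPrime : (org k N).IsPrime := RingHom.ker_isPrime _

/-- The local ring of affine space at the origin. -/
abbrev Loc : Type u := Localization.AtPrime (org k N)

/-- Its henselization. -/
abbrev HR : Type u := Henz21.Henselization (Loc k N)

/-- Polynomials in the henselization. -/
noncomputable abbrev ι : MvPolynomial (Fin N) k →+* HR k N :=
  (algebraMap (Loc k N) (HR k N)).comp (algebraMap (MvPolynomial (Fin N) k) (Loc k N))

theorem org_eq_span : org k N = Ideal.span (Set.range MvPolynomial.X) := by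
  refine le_antisymm (fun p hp => ?_) (Ideal.span_le.2 ?_)
  · have : ∀ q : MvPolynomial (Fin N) k, q - MvPolynomial.C (MvPolynomial.constantCoeff q) ∈
        Ideal.span (Set.range MvPolynomial.X) := fun q => by
      induction q using MvPolynomial.induction_on with
      | C a => simp
      | add a b ha hb => convert add_mem ha hb using 1; simp; ring
      | mul_X a i _ => simpa using Ideal.mul_mem_left (Ideal.span (Set.range (MvPolynomial.X (R := k) (σ := Fin N)))) a (Ideal.subset_span ⟨i, rfl⟩)
    have h2 := this p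
    rwa [RingHom.mem_ker.1 hp, map_zero, sub_zero] at h2
  · rintro _ ⟨i, rfl⟩
    simp [RingHom.mem_ker]

theorem maximalIdeal_eq : maximalIdeal (HR k N) = Ideal.span (Set.range fun i => ι k N (.X i)) := by
  rw [← Henz21.henselization_map_maximalIdeal (R := Loc k N) (HR k N),
    ← Localization.AtPrime.map_eq_maximalIdeal, Ideal.map_map]
  refine (congrArg (Ideal.map _) (org_eq_span k N)).trans ?_
  rw [Ideal.map_span, ← Set.range_comp]
  rfl

theorem ι_mem_pow {p : MvPolynomial (Fin N) k} {m : ℕ}
    (hp : p ∈ Ideal.span (Set.range MvPolynomial.X) ^ m) : ι k N p ∈ maximalIdeal (HR k N) ^ m := by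
  have := Ideal.mem_map_of_mem (ι k N) hp
  rw [Ideal.map_pow, Ideal.map_span, ← Set.range_comp] at this
  rw [maximalIdeal_eq]
  exact this

/-- Residues are constants. -/
theorem exists_const (t : HR k N) : ∃ c : k, t - ι k N (.C c) ∈ maximalIdeal (HR k N) := by
  obtain ⟨a, ha⟩ := residue_surjective (R := Loc k N) (Henz21.H.proj (Loc k N) (ResidueField (Loc k N)) t)
  obtain ⟨p, ⟨s, hs⟩, rfl⟩ := IsLocalization.exists_mk'_eq (org k N).primeCompl a
  refine ⟨MvPolynomial.constantCoeff p / MvPolynomial.constantCoeff s, ?_⟩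
  have hs0 : MvPolynomial.constantCoeff s ≠ 0 := hs
  rw [Henz21.H.maximalIdeal_eq, RingHom.mem_ker, map_sub, sub_eq_zero, ← ha]
  show residue (Loc k N) _ = Henz21.H.proj _ _ (algebraMap (Loc k N) (HR k N) _)
  rw [AlgHom.commutes, ResidueField.algebraMap_eq, ← sub_eq_zero, ← map_sub, residue_eq_zero_iff,
    ← Ideal.unit_mul_mem_iff_mem _ (IsLocalization.map_units (Loc k N) (⟨s, hs⟩ : (org k N).primeCompl)),
    mul_sub, IsLocalization.mk'_spec', ← map_mul, ← map_sub,
    IsLocalization.AtPrime.to_map_mem_maximal_iff (Loc k N) (org k N)]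
  simp [RingHom.mem_ker, mul_div_cancel₀ _ hs0]

/-- Polynomials are dense. -/
theorem exists_approx (m : ℕ) (t : HR k N) :
    ∃ p, t - ι k N p ∈ maximalIdeal (HR k N) ^ m := by
  induction m generalizing t with
  | zero => exact ⟨0, by simp⟩
  | succ m ih =>
    obtain ⟨c, hc⟩ := exists_const k N t
    have hc' := hc
    rw [maximalIdeal_eq, Ideal.mem_span_range_iff_exists_fun] at hc'
    obtain ⟨r, hr⟩ := hc'
    choose p hp using fun i => ih (r i)
    refine ⟨.C c + ∑ i, p i * .X i, ?_⟩
    rw [map_add, map_sum, ← sub_sub, ← hr, ← Finset.sum_sub_distrib]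
    refine Ideal.sum_mem _ fun i _ => ?_
    rw [map_mul, ← sub_mul, pow_succ]
    exact Ideal.mul_mem_mul (hp i) (maximalIdeal_eq k N ▸ Ideal.subset_span ⟨i, rfl⟩)

/-- Maps out of the henselization. -/
theorem existsUnique_hom {T : Type u} [CommRing T] [HenselianLocalRing T]
    (f : MvPolynomial (Fin N) k →+* T) (hf : ∀ i, f (.X i) ∈ maximalIdeal T) :
    (∃ g : HR k N →+* T, g.comp (ι k N) = f ∧ IsLocalHom g) ∧
      ∀ g₁ g₂ : HR k N →+* T, g₁.comp (ι k N) = f → g₂.comp (ι k N) = f → g₁ = g₂ := by
  have hle : org k N ≤ (maximalIdeal T).comap f := by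
    rw [org_eq_span, Ideal.span_le]
    rintro _ ⟨i, rfl⟩
    exact hf i
  have hu : ∀ y : (org k N).primeCompl, IsUnit (f y) := fun y => by
    have h2 : f (y.1 - .C (MvPolynomial.constantCoeff y.1)) ∈ maximalIdeal T := hle (by simp [RingHom.mem_ker])
    rw [map_sub] at h2
    have hcu : IsUnit (f (.C (MvPolynomial.constantCoeff y.1))) :=
      ((isUnit_iff_ne_zero.2 (show MvPolynomial.constantCoeff y.1 ≠ 0 from y.2)).map MvPolynomial.C).map f
    by_contra hn
    refine (mem_maximalIdeal _).1 ?_ hcu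
    simpa using (maximalIdeal T).sub_mem ((mem_maximalIdeal _).2 hn) h2
  let f0 : Loc k N →+* T := IsLocalization.lift hu
  have h0 : f0.comp (algebraMap _ _) = f := IsLocalization.lift_comp hu
  haveI hf0 : IsLocalHom f0 := by
    refine ((local_hom_TFAE f0).out 2 0).mp ?_
    rw [← Localization.AtPrime.map_eq_maximalIdeal, Ideal.map_map, h0, Ideal.map_le_iff_le_comap]
    exact hle
  obtain ⟨g, hg, hgu⟩ := (Henz21.Henselization.isHenselization (Loc k N)).universal T f0 inferInstance
  refine ⟨⟨g, by rw [← RingHom.comp_assoc, hg, h0], ?_⟩, fun g₁ g₂ h₁ h₂ => ?_⟩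
  · refine ((local_hom_TFAE g).out 2 0).mp ?_
    rw [← Henz21.henselization_map_maximalIdeal (R := Loc k N) (HR k N), Ideal.map_map, hg]
    exact ((local_hom_TFAE f0).out 0 2).mp hf0
  · have key : ∀ g' : HR k N →+* T, g'.comp (ι k N) = f → g'.comp (algebraMap (Loc k N) (HR k N)) = f0 :=
      fun g' h' => IsLocalization.ringHom_ext (org k N).primeCompl (by rw [RingHom.comp_assoc, h', h0])
    exact (hgu _ (key g₁ h₁)).trans (hgu _ (key g₂ h₂)).symm

theorem henselianLocalRing_mvPowerSeries : HenselianLocalRing (MvPowerSeries (Fin N) k) := by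
  haveI := CAlg6.isAdicComplete_maximalIdeal (k := k) (d := N)
  haveI := IsAdicComplete.henselianRing (MvPowerSeries (Fin N) k) (maximalIdeal _)
  exact { is_henselian := fun f hf a₀ h₁ h₂ => HenselianRing.is_henselian f hf a₀ h₁
            (h₂.map (Ideal.Quotient.mk _)) }

/-- The henselization inside power series, compatible with the filtrations. -/
theorem exists_toPS : ∃ ρ : HR k N →+* MvPowerSeries (Fin N) k,
    (∀ p : MvPolynomial (Fin N) k, ρ (ι k N p) = p) ∧
    (∀ m t, ρ t ∈ maximalIdeal (MvPowerSeries (Fin N) k) ^ m ↔ t ∈ maximalIdeal (HR k N) ^ m) ∧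
    (∀ m s, ∃ t, ρ t - s ∈ maximalIdeal (MvPowerSeries (Fin N) k) ^ m) := by
  haveI := henselianLocalRing_mvPowerSeries k N
  obtain ⟨ρ, hρ, hl⟩ := (existsUnique_hom k N (MvPolynomial.coeToMvPowerSeries.ringHom)
    (fun i => CAlg6.mem_maximalIdeal_iff.2 (by simp))).1
  have hρ' : ∀ p : MvPolynomial (Fin N) k, ρ (ι k N p) = p := fun p => RingHom.congr_fun hρ p
  have hle : ∀ m, (maximalIdeal (HR k N) ^ m).map ρ ≤ maximalIdeal (MvPowerSeries (Fin N) k) ^ m := fun m => by
    rw [Ideal.map_pow]
    exact Ideal.pow_right_mono (((local_hom_TFAE ρ).out 0 2).mp hl) m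
  refine ⟨ρ, hρ', fun m t => ⟨fun h => ?_, fun h => hle m (Ideal.mem_map_of_mem _ h)⟩, fun m s => ?_⟩
  · obtain ⟨p, hp⟩ := exists_approx k N m t
    have h2 := hle m (Ideal.mem_map_of_mem ρ hp)
    rw [map_sub, hρ'] at h2
    have h3 : (p : MvPowerSeries (Fin N) k) ∈ maximalIdeal (MvPowerSeries (Fin N) k) ^ m := by
      have := sub_mem h h2
      rwa [sub_sub_cancel] at this
    have h4 : p ∈ MvPolynomial.idealOfVars (Fin N) k ^ m := by
      rw [MvPolynomial.mem_pow_idealOfVars_iff]
      intro d hd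
      by_contra hlt
      have := QS97.ordGE_of_mem_pow m h3 d (not_le.1 hlt)
      rw [MvPolynomial.coeff_coe] at this
      exact MvPolynomial.mem_support_iff.1 hd this
    simpa using add_mem hp (ι_mem_pow k N h4)
  · exact ⟨ι k N (MvPowerSeries.truncTotal m s), by
      rw [hρ', ← neg_sub]
      exact neg_mem (QS97.mem_pow_of_ordGE m (QS97.ordGE_sub_truncTotal m s))⟩

end Groth.Agent.An92.Morse
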