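import Groth.Agent.Henz21.QuasiFiniteLocal
import Groth.Agent.EtAlg23.HenselUniv
import Mathlib.RingTheory.EssentialFiniteness

/-! The henselization of a local ring generated at the closed point by the base is a quotient of the
henselization of the base. -/

set_option autoImplicit false
set_option linter.style.haveILetI false

universe u

open IsLocalRing

namespace Groth.Agent.An92.Morse

variable {A O Ah Oh : Type u} [CommRing A] [IsLocalRing A] [CommRing O] [IsLocalRing O] [Algebra A O]
  [IsLocalHom (algebraMap A O)] [Algebra.EssFiniteType A O]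
  [CommRing Ah] [IsLocalRing Ah] [Algebra A Ah] [IsLocalHom (algebraMap A Ah)]
  [CommRing Oh] [IsLocalRing Oh] [Algebra O Oh] [IsLocalHom (algebraMap O Oh)]
  [Algebra A Oh] [IsScalarTower A O Oh]

theorem quasiFinite_of_finite (R T : Type u) [CommRing R] [CommRing T] [Algebra R T] [Module.Finite R T] :
    Algebra.QuasiFinite R T :=
  ⟨fun _ _ => inferInstance⟩

/-- If `m_A` generates `m_O` and the residue fields agree, `Ah → Oh` is surjective. -/
theorem surjective_henselization [Hensel.IsHenselization A Ah] [hO : Hensel.IsHenselization O Oh]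
    (hm : (maximalIdeal A).map (algebraMap A O) = maximalIdeal O)
    (hres : ∀ x : O, ∃ a : A, x - algebraMap A O a ∈ maximalIdeal O)
    (g : Ah →ₐ[A] Oh) [IsLocalHom g.toRingHom] : Function.Surjective g := by
  classical
  let S := Algebra.EssFiniteType.subalgebra A O
  haveI : Algebra.FiniteType A S := inferInstance
  let q : Ideal S := (maximalIdeal O).comap (algebraMap S O)
  have hsub : Algebra.EssFiniteType.submonoid A O = q.primeCompl := by
    ext s
    show IsUnit (algebraMap S O s) ↔ algebraMap S O s ∉ maximalIdeal O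
    rw [mem_maximalIdeal, mem_nonunits_iff, not_not]
  haveI hloc : IsLocalization.AtPrime O q := by
    show IsLocalization q.primeCompl O
    rw [← hsub]; infer_instance
  have hqA : q.under A = maximalIdeal A := by
    show (q.comap (algebraMap A S)) = _
    rw [Ideal.comap_comap, ← IsScalarTower.algebraMap_eq]
    exact ((local_hom_TFAE (algebraMap A O)).out 0 4).mp ‹_›
  haveI : Algebra.WeaklyQuasiFiniteAt A q := by
    rw [Algebra.weaklyQuasiFiniteAt_iff, hqA]
    let e : O ≃ₐ[A] Localization.AtPrime q :=
      (IsLocalization.algEquiv q.primeCompl O (Localization.AtPrime q)).restrictScalars A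
    let f : A →ₐ[A] Localization.AtPrime q ⧸ (maximalIdeal A).map (algebraMap A (Localization.AtPrime q)) :=
      Algebra.ofId _ _
    have hf : Function.Surjective f := fun z => by
      obtain ⟨z, rfl⟩ := Ideal.Quotient.mk_surjective z
      obtain ⟨x, rfl⟩ := e.surjective z
      obtain ⟨a, ha⟩ := hres x
      refine ⟨a, (Ideal.Quotient.eq.2 ?_).symm⟩
      rw [← hm] at ha
      have := Ideal.mem_map_of_mem e.toRingHom ha
      rw [Ideal.map_map, map_sub] at this
      have h1 : e.toRingHom.comp (algebraMap A O) = algebraMap A _ := e.toAlgHom.comp_algebraMap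
      rw [h1] at this
      exact (congrArg (· ∈ _) (congrArg (_ - ·) (e.commutes a))).mp this
    haveI : Module.Finite A (Localization.AtPrime q ⧸ (maximalIdeal A).map (algebraMap A (Localization.AtPrime q))) :=
      Module.Finite.of_surjective f.toLinearMap hf
    exact quasiFinite_of_finite A _
  haveI : Algebra.QuasiFiniteAt A q := Algebra.QuasiFiniteAt.of_weaklyQuasiFiniteAt q
  obtain ⟨B', hB', hfrac⟩ := Henz21.exists_finite_subalgebra (R := A) (A := A) (Sq := O) q
  letI : Algebra Ah Oh := g.toRingHom.toAlgebra
  haveI : IsScalarTower A Ah Oh := IsScalarTower.of_algebraMap_eq fun a => (g.commutes a).symm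
  haveI : IsLocalHom (IsScalarTower.toAlgHom A Ah Oh).toRingHom := ‹IsLocalHom g.toRingHom›
  haveI : Algebra.IsIntegral A B' := inferInstance
  have hs := Henz21.baseChangeMap_henselization (A := A) (S := O) (Ash := Ah) (Ssh := Oh) (B' := B')
    (IsScalarTower.toAlgHom A Ah Oh) hfrac fun b hb => ⟨1, by simp, by
      rw [one_mul]; exact Subtype.ext hb⟩
  haveI : Module.Finite Ah Oh := Henz21.finite_of_baseChange hs
  haveI := hO.henselian
  obtain ⟨hr, hmO⟩ := EtAlg23.henselization_surjective_and_map_maximalIdeal (A := O) (B := Oh) hO.universal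
  have hmA : (maximalIdeal Oh) ≤ (maximalIdeal Ah).map (algebraMap Ah Oh) := by
    rw [← hmO, ← hm, Ideal.map_map, ← IsScalarTower.algebraMap_eq, IsScalarTower.algebraMap_eq A Ah Oh,
      ← Ideal.map_map]
    exact Ideal.map_mono (((local_hom_TFAE (algebraMap A Ah)).out 0 2).mp ‹_›)
  have hle : (⊤ : Submodule Ah Oh) ≤ LinearMap.range (Algebra.linearMap Ah Oh) ⊔
      maximalIdeal Ah • (⊤ : Submodule Ah Oh) := fun y _ => by
    obtain ⟨x, hx⟩ := hr y
    rw [hmO] at hx
    obtain ⟨a, ha⟩ := hres x
    have h2 : y - algebraMap Ah Oh (algebraMap A Ah a) ∈ maximalIdeal Oh := by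
      rw [← IsScalarTower.algebraMap_apply, IsScalarTower.algebraMap_apply A O Oh]
      have hmap : (maximalIdeal O).map (algebraMap O Oh) ≤ maximalIdeal Oh :=
        ((local_hom_TFAE (algebraMap O Oh)).out 0 2).mp ‹_›
      have h3 : algebraMap O Oh (x - algebraMap A O a) ∈ maximalIdeal Oh :=
        hmap (Ideal.mem_map_of_mem _ ha)
      rw [map_sub] at h3
      have := add_mem hx h3
      rwa [sub_add_sub_cancel] at this
    rw [show y = algebraMap Ah Oh (algebraMap A Ah a) + (y - algebraMap Ah Oh (algebraMap A Ah a)) by ring]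
    refine Submodule.add_mem_sup ⟨_, rfl⟩ ?_
    rw [Ideal.smul_top_eq_map]
    exact hmA h2
  have := Submodule.le_of_le_smul_of_le_jacobson_bot Module.Finite.fg_top
    (maximalIdeal_le_jacobson _) hle
  exact fun y => this (Submodule.mem_top (x := y))

end Groth.Agent.An92.Morse
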