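import Groth.Agent.An92.Morse.Base
import Groth.Agent.An92.Morse.Coord
import Groth.Agent.An92.Morse.Surj
import Groth.Agent.Hensel20.Stages

/-! A quadratic singularity is the henselization of affine space modulo one equation. -/

set_option autoImplicit false
set_option linter.style.haveILetI false

universe u

open IsLocalRing

namespace Groth.Agent.An92.Morse

variable {k : Type u} [Field k]

theorem map_maximalIdeal_of_surjective {A B : Type u} [CommRing A] [IsLocalRing A] [CommRing B]
    [IsLocalRing B] (g : A →+* B) [IsLocalHom g] (hg : Function.Surjective g) :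
    (maximalIdeal A).map g = maximalIdeal B := by
  refine le_antisymm (((local_hom_TFAE g).out 0 2).mp ‹_›) fun y hy => ?_
  obtain ⟨x, rfl⟩ := hg y
  refine Ideal.mem_map_of_mem g ((mem_maximalIdeal x).2 fun hu => (mem_maximalIdeal _).1 hy (hu.map g))

variable {N : ℕ} {O Oh : Type u} [CommRing O] [IsLocalRing O] [Algebra k O] [Algebra.EssFiniteType k O]
  [CommRing Oh] [IsLocalRing Oh] [Algebra O Oh] [IsLocalHom (algebraMap O Oh)]

/-- Local rings generated by `N` elements are quotients of the henselization of affine space. -/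
theorem exists_surjective [hO : Hensel.IsHenselization O Oh]
    (hk : ∀ x : O, ∃ c : k, x - algebraMap k O c ∈ maximalIdeal O) (y : Fin N → O)
    (hy : Ideal.span (Set.range y) = maximalIdeal O) :
    ∃ g : HR k N →+* Oh, IsLocalHom g ∧ Function.Surjective g ∧
      ∀ p : MvPolynomial (Fin N) k, g (ι k N p) = algebraMap O Oh (MvPolynomial.aeval y p) := by
  have hyi : ∀ i, y i ∈ maximalIdeal O := fun i => hy ▸ Ideal.subset_span ⟨i, rfl⟩
  let f0 : MvPolynomial (Fin N) k →+* O := (MvPolynomial.aeval y).toRingHom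
  have hle : org k N ≤ (maximalIdeal O).comap f0 := by
    rw [org_eq_span, Ideal.span_le]
    rintro _ ⟨i, rfl⟩
    simpa [f0] using hyi i
  have hu : ∀ q : (org k N).primeCompl, IsUnit (f0 q) := fun q => by
    have h2 : f0 (q.1 - .C (MvPolynomial.constantCoeff q.1)) ∈ maximalIdeal O := hle (by simp [RingHom.mem_ker])
    rw [map_sub] at h2
    have hcu : IsUnit (f0 (.C (MvPolynomial.constantCoeff q.1))) :=
      ((isUnit_iff_ne_zero.2 (show MvPolynomial.constantCoeff q.1 ≠ 0 from q.2)).map MvPolynomial.C).map f0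
    by_contra hn
    refine (mem_maximalIdeal _).1 ?_ hcu
    simpa using (maximalIdeal O).sub_mem ((mem_maximalIdeal _).2 hn) h2
  letI : Algebra (Loc k N) O := (IsLocalization.lift hu : Loc k N →+* O).toAlgebra
  have hlift : ∀ p, algebraMap (Loc k N) O (algebraMap _ _ p) = f0 p := fun p => IsLocalization.lift_eq hu p
  haveI : IsScalarTower k (Loc k N) O := IsScalarTower.of_algebraMap_eq fun c => by
    rw [IsScalarTower.algebraMap_apply k (MvPolynomial (Fin N) k) (Loc k N), hlift]
    simp [f0]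
  haveI : Algebra.EssFiniteType (Loc k N) O := Algebra.EssFiniteType.of_comp k (Loc k N) O
  have hm : (maximalIdeal (Loc k N)).map (algebraMap (Loc k N) O) = maximalIdeal O := by
    rw [← Localization.AtPrime.map_eq_maximalIdeal, Ideal.map_map]
    refine (congrArg (Ideal.map _) (org_eq_span k N)).trans ?_
    rw [Ideal.map_span, ← Set.range_comp, ← hy]
    exact congrArg (fun v => Ideal.span (Set.range v)) (funext fun i => (hlift _).trans (by simp [f0]))
  haveI : IsLocalHom (algebraMap (Loc k N) O) := ((local_hom_TFAE _).out 2 0).mp hm.le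
  have hres : ∀ x : O, ∃ a : Loc k N, x - algebraMap (Loc k N) O a ∈ maximalIdeal O := fun x => by
    obtain ⟨c, hc⟩ := hk x
    exact ⟨algebraMap k _ c, by rwa [← IsScalarTower.algebraMap_apply]⟩
  letI : Algebra (Loc k N) Oh := ((algebraMap O Oh).comp (algebraMap (Loc k N) O)).toAlgebra
  haveI : IsScalarTower (Loc k N) O Oh := IsScalarTower.of_algebraMap_eq fun _ => rfl
  haveI := hO.henselian
  haveI : IsLocalHom (algebraMap (Loc k N) Oh) := RingHom.isLocalHom_comp _ _
  obtain ⟨g, hg, -⟩ := (Henz21.Henselization.isHenselization (Loc k N)).universal Oh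
    (algebraMap (Loc k N) Oh) inferInstance
  haveI hgl : IsLocalHom g := by
    refine ((local_hom_TFAE g).out 2 0).mp ?_
    rw [← Henz21.henselization_map_maximalIdeal (R := Loc k N) (HR k N), Ideal.map_map, hg]
    exact ((local_hom_TFAE _).out 0 2).mp ‹IsLocalHom (algebraMap (Loc k N) Oh)›
  let g' : HR k N →ₐ[Loc k N] Oh := { g with commutes' := RingHom.congr_fun hg }
  haveI : IsLocalHom g'.toRingHom := hgl
  refine ⟨g, hgl, surjective_henselization hm hres g', fun p => ?_⟩
  exact (RingHom.congr_fun hg _).trans (congrArg (algebraMap O Oh) (hlift p))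

/-- A quadratic singularity is `R/(F)` with `F` a quadratic form up to order three. -/
theorem exists_hypersurface {n : ℕ} [hO : Hensel.IsHenselization O Oh]
    (hk : ∀ x : O, ∃ c : k, x - algebraMap k O c ∈ maximalIdeal O)
    (hq : VanCyc.IsOrdQuadSing k O n) :
    ∃ (q : Fin (n + 1) → Fin (n + 1) → k) (g : HR k (n + 1) →+* Oh) (F : HR k (n + 1)),
      VanCyc.QuadOrd q ∧ Function.Surjective g ∧ RingHom.ker g = Ideal.span {F} ∧
      F - ι k (n + 1) (VanCyc.quadPoly q) ∈ maximalIdeal (HR k (n + 1)) ^ 3 ∧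
      ∀ c, g (ι k (n + 1) (.C c)) = algebraMap O Oh (algebraMap k O c) := by
  haveI : IsNoetherianRing O := Algebra.EssFiniteType.isNoetherianRing k O
  obtain ⟨q, f, y, δ, hord, hfq, hδy, hδ⟩ := exists_coords O hq
  let P := MvPowerSeries (Fin (n + 1)) k
  let M : Ideal P := maximalIdeal P
  let π := Ideal.Quotient.mk (Ideal.span {f})
  have hXM : ∀ i, (MvPowerSeries.X i : P) ∈ M := fun i =>
    CAlg6.mem_maximalIdeal_iff.2 (MvPowerSeries.constantCoeff_X i)
  have hy1 : ∀ i, y i ∈ maximalIdeal O := fun i => by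
    rw [← pow_one (maximalIdeal O), ← hδ, pow_one, hδy]
    exact Ideal.mem_map_of_mem _ (hXM i)
  have hy : Ideal.span (Set.range y) = maximalIdeal O := by
    refine le_antisymm (Ideal.span_le.2 (Set.range_subset_iff.2 hy1))
      (Submodule.le_of_le_smul_of_le_jacobson_bot (IsNoetherian.noetherian _)
        (maximalIdeal_le_jacobson ⊥) fun x hx => ?_)
    rw [← pow_one (maximalIdeal O), ← hδ, pow_one] at hx
    obtain ⟨a, ha, hax⟩ := (Ideal.mem_map_iff_of_surjective _ Ideal.Quotient.mk_surjective).1 hx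
    obtain ⟨b, -, rfl⟩ := CAlg6.exists_decomp (N := 0) (CAlg6.ordGE_one_iff.2 (CAlg6.mem_maximalIdeal_iff.1 ha))
    let c : Fin (n + 1) → k := fun i => MvPowerSeries.constantCoeff (b i)
    let z : O := ∑ i, algebraMap k O (c i) * y i
    have hz : δ (x - z) ∈ (M.map π) ^ 2 := by
      rw [map_sub, ← hax, map_sum, map_sum, ← Finset.sum_sub_distrib, pow_two]
      refine Ideal.sum_mem _ fun i _ => ?_
      rw [map_mul, map_mul, hδy, AlgHom.commutes, ← Ideal.Quotient.mk_algebraMap, ← mul_comm (π (b i)),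
        ← sub_mul]
      rw [← map_sub]
      refine Ideal.mul_mem_mul (Ideal.mem_map_of_mem _ (CAlg6.mem_maximalIdeal_iff.2 ?_)) (Ideal.mem_map_of_mem _ (hXM i))
      rw [map_sub, MvPowerSeries.algebraMap_apply, MvPowerSeries.constantCoeff_C]
      exact sub_self _
    rw [show x = z + (x - z) by ring]
    refine Submodule.add_mem_sup (Ideal.sum_mem _ fun i _ =>
      Ideal.mul_mem_left _ _ (Ideal.subset_span ⟨i, rfl⟩)) ?_
    rw [smul_eq_mul, ← pow_two]
    exact (hδ 2 _).1 hz
  obtain ⟨g, hgl, hgs, hg⟩ := exists_surjective (Oh := Oh) hk y hy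
  have hf1 : f ∈ M := by
    have h3 : f - (VanCyc.quadPoly q : MvPolynomial (Fin (n + 1)) k) ∈ M :=
      Ideal.pow_le_self three_ne_zero hfq
    have h4 : ((VanCyc.quadPoly q : MvPolynomial (Fin (n + 1)) k) : P) ∈ M := by
      rw [QS97.coe_quadPoly]
      refine CAlg6.mem_maximalIdeal_iff.2 ?_
      rw [← MvPowerSeries.coeff_zero_eq_constantCoeff_apply]
      exact QS97.coeff_quadEval_of_ne_two q (by simp)
    simpa using M.add_mem h3 h4
  haveI : Nontrivial (P ⧸ Ideal.span {f}) := Ideal.Quotient.nontrivial_iff.2 fun h =>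
    (maximalIdeal.isMaximal P).ne_top (top_le_iff.1 (h ▸ (Ideal.span_singleton_le_iff_mem _).2 hf1))
  haveI : IsLocalRing (P ⧸ Ideal.span {f}) := IsLocalRing.of_surjective' π Ideal.Quotient.mk_surjective
  haveI := henselianLocalRing_mvPowerSeries k (n + 1)
  haveI hT := EtAlg23.henselianLocalRing_of_surjective π Ideal.Quotient.mk_surjective
  haveI : IsLocalHom π := IsLocalHom.of_surjective _ Ideal.Quotient.mk_surjective
  have hπm : (maximalIdeal P).map π ≤ maximalIdeal (P ⧸ Ideal.span {f}) :=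
    ((local_hom_TFAE π).out 0 2).mp ‹_›
  have hδl : IsLocalHom δ.toRingHom := ⟨fun x hx => by
    by_contra hn
    have := (hδ 1 x).2 (by rw [pow_one]; exact (mem_maximalIdeal x).2 hn)
    rw [pow_one] at this
    exact (mem_maximalIdeal _).1 (hπm this) hx⟩
  obtain ⟨τ, hτ, -⟩ := hO.universal (P ⧸ Ideal.span {f}) δ.toRingHom hδl
  obtain ⟨ρ, hρ, hρm, hρs⟩ := exists_toPS k (n + 1)
  let F0 : MvPolynomial (Fin (n + 1)) k →+* P ⧸ Ideal.span {f} :=
    π.comp MvPolynomial.coeToMvPowerSeries.ringHom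
  have hcomm : τ.comp g = π.comp ρ := by
    have e0 : δ.toRingHom.comp (MvPolynomial.aeval y).toRingHom = F0 := by
      refine MvPolynomial.ringHom_ext (fun c => ?_) fun i => ?_
      · simp only [RingHom.comp_apply, AlgHom.toRingHom_eq_coe, RingHom.coe_coe, MvPolynomial.aeval_C,
          AlgHom.commutes, F0]
        simp [π, ← Ideal.Quotient.mk_algebraMap, MvPowerSeries.algebraMap_apply]
      · simp [F0, π, hδy]
    refine (existsUnique_hom k (n + 1) F0 fun i => ?_).2 _ _ ?_ ?_
    · exact hπm (Ideal.mem_map_of_mem π (show ((MvPolynomial.X i : MvPolynomial (Fin (n + 1)) k) : P) ∈ M by simpa using hXM i))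
    · refine RingHom.ext fun p => ?_
      show τ (g (ι k (n + 1) p)) = F0 p
      rw [hg, ← e0]
      exact RingHom.congr_fun hτ _
    · refine RingHom.ext fun p => ?_
      show π (ρ (ι k (n + 1) p)) = F0 p
      rw [hρ]; rfl
  let R := HR k (n + 1)
  let Q : R := ι k (n + 1) (VanCyc.quadPoly q)
  have hQ3 : g Q ∈ maximalIdeal Oh ^ 3 := by
    rw [hg]
    have h1 : MvPolynomial.aeval y (VanCyc.quadPoly q) ∈ maximalIdeal O ^ 3 := by
      rw [← hδ]
      rw [show δ (MvPolynomial.aeval y (VanCyc.quadPoly q)) = π (VanCyc.quadPoly q : MvPolynomial _ k) from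
        (RingHom.congr_fun hτ _).symm.trans ((congrArg τ (hg _).symm).trans
          ((RingHom.congr_fun hcomm Q).trans (congrArg π (hρ _)))), ← Ideal.map_pow]
      have h2 := neg_mem (Ideal.mem_map_of_mem π hfq)
      rwa [map_sub, Ideal.Quotient.eq_zero_iff_mem.2 (Ideal.mem_span_singleton_self f), zero_sub, neg_neg] at h2
    have := Ideal.mem_map_of_mem (algebraMap O Oh) h1
    rw [Ideal.map_pow] at this
    exact Ideal.pow_right_mono (((local_hom_TFAE (algebraMap O Oh)).out 0 2).mp ‹_›) 3 this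
  rw [← map_maximalIdeal_of_surjective g hgs, ← Ideal.map_pow] at hQ3
  obtain ⟨h, hh, hgh⟩ := (Ideal.mem_map_iff_of_surjective g hgs).1 hQ3
  let F := Q - h
  have hgF : g F = 0 := by rw [map_sub, hgh, sub_self]
  have hFQ : F - Q ∈ maximalIdeal R ^ 3 := by
    show Q - h - Q ∈ _
    rw [sub_sub_cancel_left]
    exact neg_mem hh
  have hker : ∀ z, g z = 0 → ρ z ∈ Ideal.span {f} := fun z hz => Ideal.Quotient.eq_zero_iff_mem.1 (by
    rw [← RingHom.comp_apply, ← hcomm, RingHom.comp_apply, hz, map_zero])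
  obtain ⟨v, hv⟩ := Ideal.mem_span_singleton'.1 (hker F hgF)
  have hρQ : (VanCyc.quadPoly q : MvPolynomial _ k) = ρ Q := (hρ _).symm
  have hvu : IsUnit v := by
    by_contra hn
    have h2 : f ∈ M ^ 2 := by
      have h4 : ((VanCyc.quadPoly q : MvPolynomial (Fin (n + 1)) k) : P) ∈ M ^ 2 := by
        rw [QS97.coe_quadPoly]
        exact QS97.mem_pow_of_ordGE 2 fun d hd => QS97.coeff_quadEval_of_ne_two q (by omega)
      simpa using (M ^ 2).add_mem (Ideal.pow_le_pow_right (by norm_num) hfq) h4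
    have h3 : ρ F ∈ M ^ 3 := by
      rw [← hv, pow_succ']; exact Ideal.mul_mem_mul ((mem_maximalIdeal v).2 hn) h2
    refine quadPoly_notMem q hord ?_
    rw [hρQ]
    have h5 := (hρm 3 _).2 hFQ
    rw [map_sub] at h5
    simpa using sub_mem h3 h5
  haveI : IsNoetherianRing R := inferInstance
  refine ⟨q, g, F, hord, hgs, le_antisymm (fun z hz => ?_) ((Ideal.span_singleton_le_iff_mem _).2 hgF), hFQ,
    fun c => by rw [hg, MvPolynomial.aeval_C]⟩
  obtain ⟨w, hw⟩ := Ideal.mem_span_singleton'.1 (hker z hz)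
  rw [← Ideal.Quotient.eq_zero_iff_mem]
  have hne : (Ideal.span {F} : Ideal R) ≤ maximalIdeal R := by
    refine (Ideal.span_singleton_le_iff_mem _).2 ((mem_maximalIdeal F).2 fun hu => ?_)
    exact (hu.map g).ne_zero hgF
  haveI : Nontrivial (R ⧸ Ideal.span {F}) := Ideal.Quotient.nontrivial_iff.2 fun h' =>
    (maximalIdeal.isMaximal R).ne_top (top_le_iff.1 (h' ▸ hne))
  haveI : IsLocalRing (R ⧸ Ideal.span {F}) := IsLocalRing.of_surjective' _ Ideal.Quotient.mk_surjective
  haveI : IsLocalHom (Ideal.Quotient.mk (Ideal.span {F})) := IsLocalHom.of_surjective _ Ideal.Quotient.mk_surjective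
  rw [← Ideal.mem_bot, ← Ideal.iInf_pow_eq_bot_of_isLocalRing _ (maximalIdeal.isMaximal (R ⧸ Ideal.span {F})).ne_top,
    Ideal.mem_iInf]
  intro m
  obtain ⟨r, hr⟩ := hρs m (w * ↑hvu.unit⁻¹)
  have hzm : z - r * F ∈ maximalIdeal R ^ m := by
    rw [← hρm, map_sub, map_mul, ← hw, ← hv]
    have := Ideal.mul_mem_right (-(v * f)) _ hr
    convert this using 1
    linear_combination (-(w * f)) * hvu.val_inv_mul
  have := Ideal.mem_map_of_mem (Ideal.Quotient.mk (Ideal.span {F})) hzm
  rw [map_sub, map_mul, Ideal.Quotient.eq_zero_iff_mem.2 (Ideal.mem_span_singleton_self F), mul_zero, sub_zero,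
    Ideal.map_pow] at this
  exact Ideal.pow_right_mono (((local_hom_TFAE (Ideal.Quotient.mk (Ideal.span {F}))).out 0 2).mp ‹_›) m this

end Groth.Agent.An92.Morse
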