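import Groth.Agent.An92.Morse.Kernel
import Groth.Agent.An92.Morse.Hensel
import Groth.Agent.Henz21.IsoCriterion
import Groth.Agent.Hensel20.Stages
import Groth.Prelude.Def_Hensel

/-! Quadratic singularities over an algebraically closed field are henselized quadratic cones. -/

set_option autoImplicit false
set_option linter.style.haveILetI false

universe u

open IsLocalRing Matrix

namespace Groth.Agent.An92.Morse

variable {k : Type u} [Field k] {N : ℕ}

/-- Local homomorphisms preserve the maximal ideal. -/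
theorem map_mem {A B : Type u} [CommRing A] [IsLocalRing A] [CommRing B] [IsLocalRing B] (φ : A →+* B)
    [IsLocalHom φ] {a : A} (ha : a ∈ maximalIdeal A) : φ a ∈ maximalIdeal B :=
  (mem_maximalIdeal _).2 (map_nonunit φ a ha)

/-- A henselization is the henselization of each of its stages. -/
theorem isHenselization_stage {A : Type u} [CommRing A] [IsLocalRing A]
    (i : Henz21.Pt A (ResidueField A)) :
    Hensel.IsHenselization (Hensel20.Stage i) (Henz21.Henselization A) where
  henselian := (Henz21.Henselization.isHenselization A).henselian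
  universal T _ _ f hf := by
    haveI := hf
    let f0 : A →+* T := f.comp (algebraMap A (Hensel20.Stage i))
    haveI : IsLocalHom f0 := RingHom.isLocalHom_comp _ _
    obtain ⟨g, hg, hgu⟩ := (Henz21.Henselization.isHenselization A).universal T f0 inferInstance
    refine ⟨g, ?_, fun g' hg' => hgu g' ?_⟩
    swap
    · show g'.comp _ = f0
      rw [IsScalarTower.algebraMap_eq A (Hensel20.Stage i) (Henz21.Henselization A), ← RingHom.comp_assoc, hg']
    letI : Algebra A T := f0.toAlgebra
    have hgl : IsLocalHom g := by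
      refine ((local_hom_TFAE g).out 2 0).mp ?_
      rw [← Henz21.henselization_map_maximalIdeal (R := A) (Henz21.Henselization A), Ideal.map_map, hg]
      exact ((local_hom_TFAE f0).out 0 2).mp ‹_›
    let gS : i.S →ₐ[A] T := { g.comp (Henz21.H.incl i).toRingHom with
      commutes' := fun a => (congrArg g ((Henz21.H.incl i).commutes a)).trans (RingHom.congr_fun hg a) }
    let fS : i.S →ₐ[A] T := { f.comp (algebraMap i.S (Hensel20.Stage i)) with
      commutes' := fun a => congrArg f (IsScalarTower.algebraMap_apply A i.S (Hensel20.Stage i) a).symm }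
    have hmem : ∀ (h : i.S →ₐ[A] T) (s : i.S) (a : A), h (s - algebraMap A i.S a) ∈ maximalIdeal T →
        residue T (h s) = residue T (algebraMap A T a) := fun h s a hm => by
      rw [map_sub, ← residue_eq_zero_iff, map_sub, sub_eq_zero, AlgHom.commutes] at hm
      exact hm
    have hst : ∀ s ∈ Hensel20.stagePrime i, algebraMap i.S (Hensel20.Stage i) s ∈ maximalIdeal _ :=
      fun s hs => (IsLocalization.AtPrime.to_map_mem_maximal_iff (Hensel20.Stage i) (Hensel20.stagePrime i) s).2 hs
    have heq : gS = fS := by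
      let π : T →ₐ[A] ResidueField T := IsScalarTower.toAlgHom A T (ResidueField T)
      obtain ⟨_, -, hu⟩ := Henz21.existsUnique_lift (T := T) (π.comp fS)
      refine (hu gS ?_).trans (hu fS rfl).symm
      refine AlgHom.ext fun s => ?_
      obtain ⟨a, ha⟩ := residue_surjective (R := A) (i.pt s)
      have hs : s - algebraMap A i.S a ∈ Hensel20.stagePrime i := by
        rw [RingHom.mem_ker, map_sub, AlgHom.commutes, ResidueField.algebraMap_eq, ha, sub_self]
      refine (hmem gS s a ?_).trans (hmem fS s a ?_).symm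
      · show g (Henz21.H.incl i (s - algebraMap A i.S a)) ∈ _
        rw [← Hensel20.stageHom_algebraMap]
        haveI := hgl
        exact map_mem g (map_mem (algebraMap (Hensel20.Stage i) (Henz21.Henselization A)) (hst _ hs))
      · exact map_mem f (hst _ hs)
    refine IsLocalization.ringHom_ext (Hensel20.stagePrime i).primeCompl (RingHom.ext fun s => ?_)
    show g (Hensel20.stageHom i (algebraMap i.S _ s)) = f (algebraMap i.S _ s)
    rw [Hensel20.stageHom_algebraMap]
    exact DFunLike.congr_fun heq s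

/-- Surjective endomorphisms of Noetherian rings are injective. -/
theorem injective_of_surjective {R : Type u} [CommRing R] [IsNoetherianRing R] (g : R →+* R)
    (hg : Function.Surjective g) : Function.Injective g := by
  let K : ℕ → Ideal R := fun m => (fun I : Ideal R => I.comap g)^[m] ⊥
  have hK : ∀ m x, x ∈ K m ↔ g^[m] x = 0 := fun m => by
    induction m with
    | zero => intro x; simp [K]
    | succ m ih =>
      intro x
      show x ∈ (fun I : Ideal R => I.comap g)^[m + 1] ⊥ ↔ _
      rw [Function.iterate_succ_apply', Ideal.mem_comap, ih, Function.iterate_succ_apply]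
  have hmono : Monotone K := monotone_nat_of_le_succ fun m x hx => by
    rw [hK] at hx ⊢
    rw [Function.iterate_succ_apply', hx, map_zero]
  obtain ⟨m, hm⟩ := monotone_stabilizes_iff_noetherian.mpr (inferInstance : IsNoetherian R R) ⟨K, hmono⟩
  refine (injective_iff_map_eq_zero g).2 fun x hx => ?_
  obtain ⟨z, rfl⟩ := hg.iterate m x
  have : z ∈ K (m + 1) := (hK _ _).2 (by rw [Function.iterate_succ_apply']; exact hx)
  rw [show K (m + 1) = K m from (hm (m + 1) (Nat.le_succ m)).symm, hK] at this
  exact this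

/-- Linear changes of coordinates are automorphisms of the henselization. -/
theorem exists_coordChange (M : Matrix (Fin N) (Fin N) (HR k N)) (hM : IsUnit M.det) :
    ∃ g : HR k N →+* HR k N, Function.Bijective g ∧
      (∀ c, g (ι k N (.C c)) = ι k N (.C c)) ∧
      ∀ i, g (ι k N (.X i)) = (M *ᵥ fun j => ι k N (.X j)) i := by
  classical
  let A := Loc k N
  obtain ⟨i, hi⟩ := Hensel20.exists_stage (R := A) (K := ResidueField A) Finset.univ
    (fun p : Fin N × Fin N => M p.1 p.2)
  choose M' hM' using fun p => hi p (Finset.mem_univ p)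
  let W := Hensel20.Stage i
  letI : Algebra k W := ((algebraMap A W).comp (algebraMap k A)).toAlgebra
  haveI : IsScalarTower k A W := IsScalarTower.of_algebraMap_eq fun _ => rfl
  haveI : Algebra.EssFiniteType k A := Algebra.EssFiniteType.comp k (MvPolynomial (Fin N) k) A
  haveI : Algebra.EssFiniteType k W := Algebra.EssFiniteType.comp k A W
  haveI := isHenselization_stage i
  let xW : Fin N → W := fun j => algebraMap A W (algebraMap (MvPolynomial (Fin N) k) A (MvPolynomial.X j))
  let Mm : Matrix (Fin N) (Fin N) W := Matrix.of fun a b => M' (a, b)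
  have hMm : Mm.map (algebraMap W (HR k N)) = M := by ext a b; exact hM' (a, b)
  have hdet : IsUnit Mm.det := by
    refine isUnit_of_map_unit (algebraMap W (HR k N)) _ ?_
    rw [RingHom.map_det]
    exact (congrArg Matrix.det hMm).symm ▸ hM
  let y : Fin N → W := Mm *ᵥ xW
  have hxW : maximalIdeal W = Ideal.span (Set.range xW) := by
    rw [← Hensel20.stage_map_maximalIdeal i, ← Localization.AtPrime.map_eq_maximalIdeal, Ideal.map_map]
    refine (congrArg (Ideal.map _) (org_eq_span k N)).trans ?_
    rw [Ideal.map_span, ← Set.range_comp]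
    rfl
  have hy : Ideal.span (Set.range y) = maximalIdeal W := by
    rw [hxW]
    refine le_antisymm (Ideal.span_le.2 ?_) (Ideal.span_le.2 ?_)
    · rintro _ ⟨a, rfl⟩
      show (∑ b, Mm a b * xW b) ∈ Ideal.span (Set.range xW)
      refine sum_mem fun b _ => ?_
      exact Ideal.mul_mem_left (Ideal.span (Set.range xW)) (Mm a b)
        (Ideal.subset_span (Set.mem_range_self b))
    · rintro _ ⟨a, rfl⟩
      have : xW = Mm⁻¹ *ᵥ y := by rw [Matrix.mulVec_mulVec, Matrix.nonsing_inv_mul _ hdet, Matrix.one_mulVec]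
      rw [this]
      show (∑ b, Mm⁻¹ a b * y b) ∈ Ideal.span (Set.range y)
      refine sum_mem fun b _ => ?_
      exact Ideal.mul_mem_left (Ideal.span (Set.range y)) (Mm⁻¹ a b)
        (Ideal.subset_span (Set.mem_range_self b))
  have hk : ∀ x : W, ∃ c : k, x - algebraMap k W c ∈ maximalIdeal W := fun x => by
    obtain ⟨c, hc⟩ := exists_const k N (algebraMap W (HR k N) x)
    refine ⟨c, (mem_maximalIdeal _).2 fun hu => (mem_maximalIdeal _).1 hc ?_⟩
    have hu' := hu.map (algebraMap W (HR k N))
    rw [map_sub] at hu'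
    convert hu' using 2
    show ι k N (.C c) = algebraMap W (HR k N) (algebraMap A W (algebraMap k A c))
    rw [← IsScalarTower.algebraMap_apply A W, IsScalarTower.algebraMap_apply k (MvPolynomial (Fin N) k) A]
    rfl
  obtain ⟨g, -, hgs, hg⟩ := exists_surjective (Oh := HR k N) hk y hy
  refine ⟨g, ⟨injective_of_surjective g hgs, hgs⟩, fun c => ?_, fun a => ?_⟩
  · rw [hg, MvPolynomial.aeval_C]
    show algebraMap W (HR k N) (algebraMap A W (algebraMap k A c)) = _
    rw [← IsScalarTower.algebraMap_apply A W, IsScalarTower.algebraMap_apply k (MvPolynomial (Fin N) k) A]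
    rfl
  · rw [hg, MvPolynomial.aeval_X]
    show algebraMap W (HR k N) ((Mm *ᵥ xW) a) = _
    rw [RingHom.map_mulVec, hMm]
    congr 1
    exact funext fun j => (IsScalarTower.algebraMap_apply A W (HR k N) _).symm

variable {O Oh : Type u} [CommRing O] [IsLocalRing O] [Algebra k O] [Algebra.EssFiniteType k O]
  [CommRing Oh] [IsLocalRing Oh] [Algebra O Oh] [IsLocalHom (algebraMap O Oh)]

/-- The normal form. -/
theorem exists_normalForm [IsAlgClosed k] {n : ℕ} [Hensel.IsHenselization O Oh]
    (hk : ∀ x : O, ∃ c : k, x - algebraMap k O c ∈ maximalIdeal O)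
    (hq : VanCyc.IsOrdQuadSing k O n) :
    ∃ (q : Fin (n + 1) → Fin (n + 1) → k) (g : HR k (n + 1) →+* Oh),
      VanCyc.QuadOrd q ∧ Function.Surjective g ∧
      RingHom.ker g = Ideal.span {ι k (n + 1) (VanCyc.quadPoly q)} ∧
      ∀ c, g (ι k (n + 1) (.C c)) = algebraMap O Oh (algebraMap k O c) := by
  classical
  obtain ⟨q, g, F, hord, hgs, hker, hFQ, hgC⟩ := exists_hypersurface (Oh := Oh) hk hq
  let R := HR k (n + 1)
  let x : Fin (n + 1) → R := fun i => ι k (n + 1) (.X i)
  let qR : Fin (n + 1) → Fin (n + 1) → R := fun i j => ι k (n + 1) (.C (q i j))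
  have hQ : ι k (n + 1) (VanCyc.quadPoly q) = VanCyc.quadEval qR x := by
    rw [QS97.quadPoly_eq_quadEval, QS97.map_quadEval]
  obtain ⟨W, hW, hWF⟩ : ∃ W : Matrix (Fin (n + 1)) (Fin (n + 1)) R,
      (∀ i j, W i j ∈ maximalIdeal R) ∧ F - VanCyc.quadEval qR x = x ⬝ᵥ (W *ᵥ x) := by
    rw [← hQ]
    have hm2 : maximalIdeal R ^ 2 = Ideal.span (Set.range fun p : Fin (n + 1) × Fin (n + 1) => x p.1 * x p.2) := by
      rw [maximalIdeal_eq, pow_two, Ideal.span_mul_span']
      congr 1
      ext z
      simp only [Set.mem_mul, Set.mem_range, Prod.exists]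
      exact ⟨fun ⟨a, ⟨i, hi⟩, b, ⟨j, hj⟩, h⟩ => ⟨i, j, by rw [← h, ← hi, ← hj]⟩,
        fun ⟨i, j, h⟩ => ⟨_, ⟨i, rfl⟩, _, ⟨j, rfl⟩, h⟩⟩
    have h3 : F - ι k (n + 1) (VanCyc.quadPoly q) ∈
        maximalIdeal R • Ideal.span (Set.range fun p : Fin (n + 1) × Fin (n + 1) => x p.1 * x p.2) := by
      rw [← hm2, smul_eq_mul, ← pow_succ']
      exact hFQ
    obtain ⟨a, ha, hsum⟩ := (Submodule.mem_ideal_smul_span_iff_exists_sum (maximalIdeal R) _ _).1 h3
    refine ⟨fun i j => a (i, j), fun i j => ha _, ?_⟩
    rw [← hsum]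
    rw [Finsupp.sum_fintype]
    swap
    · exact fun _ => zero_smul R _
    rw [Fintype.sum_prod_type]
    refine Finset.sum_congr rfl fun i _ => ?_
    show _ = x i * ∑ j, a (i, j) * x j
    rw [Finset.mul_sum]
    exact Finset.sum_congr rfl fun j _ => by rw [smul_eq_mul]; ring
  let b : Fin (n + 1) → Fin (n + 1) → R := fun i j => qR i j + symT W i j
  have hb : F = VanCyc.quadEval b x := by
    rw [sub_eq_iff_eq_add'.1 hWF, ← quadEval_symT]
    simp only [VanCyc.quadEval, ← Finset.sum_add_distrib]
    refine Finset.sum_congr rfl fun i _ => Finset.sum_congr rfl fun j _ => ?_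
    split <;> simp [b, add_mul]
  haveI : HenselianLocalRing R := inferInstance
  let e : k →+* ResidueField R := (residue R).comp ((ι k (n + 1)).comp MvPolynomial.C)
  have he : Function.Bijective e := ⟨e.injective, fun z => by
    obtain ⟨t, rfl⟩ := residue_surjective z
    obtain ⟨c, hc⟩ := exists_const k (n + 1) t
    refine ⟨c, ?_⟩
    rw [← residue_eq_zero_iff, map_sub, sub_eq_zero] at hc
    exact hc.symm⟩
  obtain ⟨eE, heE⟩ : ∃ eE : k ≃+* ResidueField R, ∀ c, eE c = residue R (ι k (n + 1) (.C c)) :=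
    ⟨RingEquiv.ofBijective e he, fun c => rfl⟩
  haveI : IsAlgClosed (ResidueField R) := IsAlgClosed.of_ringEquiv k (ResidueField R) eE
  have hres : (fun i j => residue R (qR i j)) = fun i j => eE (q i j) := by
    funext i j; exact (heE _).symm
  have hord' : VanCyc.QuadOrd fun i j => residue R (qR i j) := by
    rw [hres]
    intro v h1 h2
    have hz := hord (fun i => eE.symm (v i)) (eE.injective ?_) (funext fun i => eE.injective ?_)
    · funext i
      simpa using congrArg eE (congrFun hz i)
    · rw [map_zero, QS97.map_quadEval eE]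
      simp only [RingEquiv.apply_symm_apply]
      exact h1
    · rw [Pi.zero_apply, map_zero]
      refine Eq.trans ?_ (congrFun h2 i)
      simp only [Matrix.mulVec, dotProduct, map_sum, map_mul, RingEquiv.apply_symm_apply]
      refine Finset.sum_congr rfl fun j _ => congrArg (· * v j) ?_
      exact (congrFun (congrFun (QS97.polarMatrix_map (eE : k →+* ResidueField R) q) i) j).symm
  obtain ⟨M, c, hM, hc, hMc⟩ := exists_morse R qR b (fun i j _ => by
    show qR i j + symT W i j - qR i j ∈ _
    rw [add_sub_cancel_left]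
    unfold symT
    split
    · exact hW _ _
    · exact add_mem (hW _ _) (hW _ _)) hord'
  obtain ⟨ψ, hψ, hψC, hψX⟩ := exists_coordChange M hM
  refine ⟨q, g.comp ψ, hord, hgs.comp hψ.2, ?_, fun a => by rw [RingHom.comp_apply, hψC, hgC]⟩
  have hψQ : ψ (ι k (n + 1) (VanCyc.quadPoly q)) = c * F := by
    rw [hQ, QS97.map_quadEval ψ, hb, ← hMc]
    congr 1
    · funext i j; exact hψC _
    · funext i; exact hψX i
  ext z
  rw [RingHom.mem_ker, RingHom.comp_apply, ← RingHom.mem_ker, hker, Ideal.mem_span_singleton',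
    Ideal.mem_span_singleton']
  constructor
  · rintro ⟨a, ha⟩
    obtain ⟨a', ha'⟩ := hψ.2 (a * ↑hc.unit⁻¹)
    refine ⟨a', hψ.1 ?_⟩
    rw [map_mul, ha', hψQ, ← ha, mul_assoc, ← mul_assoc (↑hc.unit⁻¹ : R), IsUnit.val_inv_mul, one_mul]
  · rintro ⟨a, ha⟩
    exact ⟨ψ a * c, by rw [← ha, map_mul, hψQ, mul_assoc]⟩

/-- The henselization of the quadratic cone at the origin. -/
theorem exists_cone {n : ℕ} (q : Fin (n + 1) → Fin (n + 1) → k)
    [(VanCyc.originQuot k q 0).IsPrime] (C : Type u) [CommRing C] [IsLocalRing C]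
    [Algebra (Localization.AtPrime (VanCyc.originQuot k q 0)) C]
    [IsLocalHom (algebraMap (Localization.AtPrime (VanCyc.originQuot k q 0)) C)]
    [hC : Hensel.IsHenselization (Localization.AtPrime (VanCyc.originQuot k q 0)) C] :
    ∃ g : HR k (n + 1) →+* C, Function.Surjective g ∧
      RingHom.ker g = Ideal.span {ι k (n + 1) (VanCyc.quadPoly q)} ∧
      ∀ c, g (ι k (n + 1) (.C c)) =
        algebraMap (Localization.AtPrime (VanCyc.originQuot k q 0)) C (algebraMap k _ c) := by
  classical
  let R := HR k (n + 1)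
  let Pn := MvPolynomial (Fin (n + 1)) k
  let L := Localization.AtPrime (VanCyc.originQuot k q 0)
  let Qx : R := ι k (n + 1) (VanCyc.quadPoly q)
  haveI := hC.henselian
  have hI : VanCyc.originIdeal k (N := n + 1) = org k (n + 1) := by
    rw [VanCyc.originIdeal, maximalIdeal_eq_bot, Ideal.map_bot, bot_sup_eq, org_eq_span]
  have hQo : VanCyc.quadPoly q - MvPolynomial.C 0 ∈ org k (n + 1) := by
    rw [map_zero, sub_zero, RingHom.mem_ker, QS97.quadPoly_eq_quadEval, QS97.map_quadEval]
    refine Finset.sum_eq_zero fun i _ => Finset.sum_eq_zero fun j _ => ?_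
    split <;> simp
  have hmemO : ∀ p : Pn, Ideal.Quotient.mk _ p ∈ VanCyc.originQuot k q 0 ↔ p ∈ org k (n + 1) := fun p => by
    rw [VanCyc.originQuot, hI, ← Ideal.mem_comap, Ideal.comap_map_of_surjective _ Ideal.Quotient.mk_surjective,
      ← RingHom.ker_eq_comap_bot, Ideal.mk_ker, sup_eq_left.2 ((Ideal.span_singleton_le_iff_mem _).2 hQo)]
  let fC : Pn →+* C := ((algebraMap L C).comp (algebraMap (VanCyc.quadRing k q 0) L)).comp (Ideal.Quotient.mk _)
  have hfC : ∀ i, fC (.X i) ∈ maximalIdeal C := fun i => by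
    refine map_mem (A := L) (algebraMap L C) ?_
    rw [IsLocalization.AtPrime.to_map_mem_maximal_iff L (VanCyc.originQuot k q 0), hmemO]
    exact MvPolynomial.constantCoeff_X (R := k) i
  obtain ⟨g, hg, hgl⟩ := (existsUnique_hom k (n + 1) fC hfC).1
  have hgQ : g Qx = 0 := by
    rw [show g Qx = fC (VanCyc.quadPoly q) from RingHom.congr_fun hg _]
    show algebraMap L C (algebraMap _ L (Ideal.Quotient.mk _ (VanCyc.quadPoly q))) = 0
    refine (congrArg (algebraMap L C) ((congrArg (algebraMap (VanCyc.quadRing k q 0) L)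
      (Ideal.Quotient.eq_zero_iff_mem.2 ?_)).trans (map_zero _))).trans (map_zero _)
    rw [map_zero, sub_zero]
    exact Ideal.mem_span_singleton_self _
  have hne : Ideal.span {Qx} ≠ ⊤ := fun h => by
    have hu := (Ideal.span_singleton_eq_top.1 h).map g
    rw [hgQ] at hu
    exact not_isUnit_zero hu
  let π := Ideal.Quotient.mk (Ideal.span {Qx})
  haveI : Nontrivial (R ⧸ Ideal.span {Qx}) := Ideal.Quotient.nontrivial_iff.2 hne
  haveI : IsLocalRing (R ⧸ Ideal.span {Qx}) := IsLocalRing.of_surjective' π Ideal.Quotient.mk_surjective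
  haveI : HenselianLocalRing R := inferInstance
  haveI hT := EtAlg23.henselianLocalRing_of_surjective π Ideal.Quotient.mk_surjective
  haveI : IsLocalHom π := IsLocalHom.of_surjective _ Ideal.Quotient.mk_surjective
  let j0 : VanCyc.quadRing k q 0 →+* R ⧸ Ideal.span {Qx} :=
    Ideal.Quotient.lift _ (π.comp (ι k (n + 1))) fun p hp => by
      obtain ⟨a, rfl⟩ := Ideal.mem_span_singleton'.1 hp
      rw [map_mul, map_zero, sub_zero]
      exact mul_eq_zero_of_right _ (Ideal.Quotient.eq_zero_iff_mem.2 (Ideal.mem_span_singleton_self Qx))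
  let j : L →+* R ⧸ Ideal.span {Qx} := IsLocalization.lift (M := (VanCyc.originQuot k q 0).primeCompl) (g := j0) fun s => by
    obtain ⟨p, hp⟩ := Ideal.Quotient.mk_surjective s.1
    have hp' : p ∈ (org k (n + 1)).primeCompl := fun h => s.2 (hp ▸ (hmemO p).2 h)
    rw [← hp]
    exact ((IsLocalization.map_units (Loc k (n + 1)) (⟨p, hp'⟩ : (org k (n + 1)).primeCompl)).map
      (algebraMap (Loc k (n + 1)) R)).map π
  let ψ : R ⧸ Ideal.span {Qx} →+* C := Ideal.Quotient.lift _ g fun z hz => by
    obtain ⟨a, rfl⟩ := Ideal.mem_span_singleton'.1 hz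
    rw [map_mul, hgQ, mul_zero]
  haveI : IsLocalHom ψ := ⟨fun z hz => by
    obtain ⟨r, rfl⟩ := Ideal.Quotient.mk_surjective z
    exact (isUnit_of_map_unit g r hz).map π⟩
  have hψ : ψ.comp j = algebraMap L C := by
    refine IsLocalization.ringHom_ext (VanCyc.originQuot k q 0).primeCompl (RingHom.ext fun z => ?_)
    obtain ⟨p, rfl⟩ := Ideal.Quotient.mk_surjective z
    show ψ (j (algebraMap _ L _)) = _
    rw [IsLocalization.lift_eq]
    exact RingHom.congr_fun hg p
  have hb := Henz21.bijective_of_henselization (R := L) (S := C) j ψ hψ fun h hl hh => by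
    refine Ideal.Quotient.ringHom_ext ((existsUnique_hom k (n + 1) (π.comp (ι k (n + 1))) fun i => ?_).2 _ _ ?_ rfl)
    · exact map_mem π (maximalIdeal_eq k (n + 1) ▸ Ideal.subset_span ⟨i, rfl⟩)
    · refine RingHom.ext fun p => ?_
      have := RingHom.congr_fun hh (algebraMap (VanCyc.quadRing k q 0) L (Ideal.Quotient.mk _ p))
      rw [RingHom.comp_apply, IsLocalization.lift_eq] at this
      exact this
  refine ⟨g, fun z => ?_, le_antisymm (fun z hz => ?_) ((Ideal.span_singleton_le_iff_mem _).2 hgQ), fun c => ?_⟩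
  · obtain ⟨w, hw⟩ := hb.2 z
    obtain ⟨r, rfl⟩ := Ideal.Quotient.mk_surjective w
    exact ⟨r, hw⟩
  · exact Ideal.Quotient.eq_zero_iff_mem.1 (hb.1 ((show ψ (π z) = 0 from hz).trans (map_zero ψ).symm))
  · rw [show g (ι k (n + 1) (.C c)) = fC (.C c) from RingHom.congr_fun hg _]
    show algebraMap L C _ = algebraMap L C _
    rw [IsScalarTower.algebraMap_apply k (VanCyc.quadRing k q 0) L]
    rfl

/-- Two surjections with the same kernel give an isomorphism. -/
theorem exists_algEquiv_of_ker {R A B : Type u} [CommRing R] [CommRing A] [CommRing B] [Algebra k A] [Algebra k B]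
    (κ : k →+* R) (f : R →+* A) (g : R →+* B) (hf : Function.Surjective f) (hg : Function.Surjective g)
    (hfκ : ∀ c, f (κ c) = algebraMap k A c) (hgκ : ∀ c, g (κ c) = algebraMap k B c)
    (hker : RingHom.ker f = RingHom.ker g) : Nonempty (A ≃ₐ[k] B) := by
  letI : Algebra k R := κ.toAlgebra
  let fA : R →ₐ[k] A := { f with commutes' := hfκ }
  let gA : R →ₐ[k] B := { g with commutes' := hgκ }
  exact ⟨(Ideal.quotientKerAlgEquivOfSurjective (f := fA) hf).symm.trans
    ((Ideal.quotientEquivAlgOfEq k (show RingHom.ker fA = RingHom.ker gA from hker)).trans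
      (Ideal.quotientKerAlgEquivOfSurjective (f := gA) hg))⟩

end Groth.Agent.An92.Morse
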